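import Cfsg.Agent.Lib.InvChar.BSW.Coherence

/-!
# The order formula and the numbers of pairs of involutions
-/

set_option autoImplicit false

open scoped ComplexConjugate Classical

namespace CfsgLib.InvChar.BSW

universe u

variable {G : Type u} [Group G] [Fintype G] {t s : G} {K : Subgroup G} [Fintype ↥K]
  (h : Hyp t s K)

/-- The normalized character value. -/
noncomputable def ratio (g : G) (ξ : Cfsg.IrrCharacter G) : ℂ := (ξ : G → ℂ) g / (ξ : G → ℂ) 1

theorem signed_ratio (g : G) (ξ : Cfsg.IrrCharacter G) {c : ℤ} (hc : c * c = 1) :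
    ratio g ξ = ((c : ℂ) * (ξ : G → ℂ) g) / ((c : ℂ) * (Char.degree (ξ : G → ℂ) : ℂ)) := by
  rw [ratio, ← Char.IsCharacter.degree_cast (Char.IsIrrCharacter.isCharacter ξ.2),
    mul_div_mul_left]
  intro e
  rw [Int.cast_eq_zero.1 e] at hc
  norm_num at hc

include h

theorem formula (hk : 4 ≤ Nat.card ↥K) :
    ∃ sg : ℤ, sg ≠ 0 ∧ sg ≠ -1 ∧ (∃ j : ℤ, sg = 1 + 2 * (Nat.card ↥K : ℤ) * j) ∧
      (4 * (Nat.card ↥K : ℂ) ^ 3 * ((sg : ℂ) * (1 + sg)) = (Nat.card G : ℂ) * ((sg : ℂ) - 1) ^ 2) ∧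
      ∀ z : G, Outside K z → ∃ σ : ℂ, IsIntegral ℤ σ ∧
        4 * (Nat.card ↥K : ℂ) ^ 2 * (pairs z : ℂ) * ((sg : ℂ) * (1 + sg)) =
          (Nat.card G : ℂ) * ((sg : ℂ) * (1 + sg) + σ * (1 + sg) +
            (2 * (Nat.card ↥K : ℂ) - 2) * (1 + σ) * sg) := by
  have hKc := K_comm h
  obtain ⟨η, hη, hη', huniq, hpm, hsq, hneg⟩ := exists_eta h
  obtain ⟨ξ₀, e, hξ₀P, he, hcen⟩ := exists_center h hη hη' huniq hpm hsq hneg hk
  have heC : (e : ℂ) * (e : ℂ) = 1 := by exact_mod_cast he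
  set d₀ := Char.degree (ξ₀ : G → ℂ) with hd₀
  set sg : ℤ := e * (d₀ : ℤ) with hsg
  set F := Finset.univ.filter (fun l : Cfsg.IrrCharacter ↥K => AbChar.cj l ≠ l) with hF
  have hgP : ∀ {l : Cfsg.IrrCharacter ↥K}, AbChar.cj l ≠ l → l ≠ Char.principalIrr :=
    fun hl e' => hl (by rw [e', AbChar.cj_principal])
  -- the second constituent of each `phi`
  have hother : ∀ l ∈ F, ∃ X, supp K l = {ξ₀, X} ∧ ξ₀ ≠ X := by
    intro l hl
    have hlg := (Finset.mem_filter.1 hl).2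
    obtain ⟨X, hX, hne⟩ : ∃ X ∈ supp K l, X ≠ ξ₀ := by
      refine Finset.exists_mem_ne ?_ ξ₀
      rw [(supp_card h (hgP hlg)).2.1 hlg]; norm_num
    exact ⟨X, pair_supp h (hgP hlg) hlg (hcen l (hgP hlg)).1 hX hne.symm, hne.symm⟩
  -- orthogonality away from `ξ₀`
  have horth : ∀ l m : Cfsg.IrrCharacter ↥K, m ≠ l → m ≠ AbChar.cj l →
      ∀ ξ : Cfsg.IrrCharacter G, ξ ≠ Char.principalIrr → ξ ≠ ξ₀ →
        coef K l ξ * coef K m ξ = 0 := by
    intro l m hne hne' ξ hξ hξ0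
    by_cases hl : l = Char.principalIrr
    · rw [hl, coef_principal_left h, zero_mul]
    by_cases hm : m = Char.principalIrr
    · rw [hm, coef_principal_left h, mul_zero]
    by_cases hlg : AbChar.cj l = l
    · by_cases hmg : AbChar.cj m = m
      · exact absurd ((huniq m hmg hm).trans (huniq l hlg hl).symm) hne
      · obtain ⟨a, ha, -⟩ := supp_inter h hm hl hmg hne.symm
          (fun e' => hne' (by rw [e', AbChar.cj_cj]))
        by_contra h0
        rw [mul_eq_zero, not_or] at h0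
        have h1 : ξ ∈ supp K m ∩ supp K l :=
          Finset.mem_inter.2 ⟨mem_supp.2 ⟨hξ, h0.2⟩, mem_supp.2 ⟨hξ, h0.1⟩⟩
        have h2 : ξ₀ ∈ supp K m ∩ supp K l :=
          Finset.mem_inter.2 ⟨(hcen m hm).1, (hcen l hl).1⟩
        rw [ha, Finset.mem_singleton] at h1 h2
        exact hξ0 (h1.trans h2.symm)
    · obtain ⟨a, ha, -⟩ := supp_inter h hl hm hlg hne hne'
      by_contra h0
      rw [mul_eq_zero, not_or] at h0
      have h1 : ξ ∈ supp K l ∩ supp K m :=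
        Finset.mem_inter.2 ⟨mem_supp.2 ⟨hξ, h0.1⟩, mem_supp.2 ⟨hξ, h0.2⟩⟩
      have h2 : ξ₀ ∈ supp K l ∩ supp K m :=
        Finset.mem_inter.2 ⟨(hcen l hl).1, (hcen m hm).1⟩
      rw [ha, Finset.mem_singleton] at h1 h2
      exact hξ0 (h1.trans h2.symm)
  let T : ↥K := ⟨t, h.tK⟩
  have hT1 : T ≠ 1 := fun e' => h.t_ne_one (congrArg Subtype.val e')
  have hTT : T * T = 1 := Subtype.ext (Invol.mul_self_eq_one h.ht)
  have hTsign : ∀ l : Cfsg.IrrCharacter ↥K, (l : ↥K → ℂ) T * (l : ↥K → ℂ) T = 1 := fun l => by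
    rw [← AbChar.apply_mul hKc, hTT, AbChar.apply_one hKc]
  have hcjT : ∀ l : Cfsg.IrrCharacter ↥K, (AbChar.cj l : ↥K → ℂ) T = (l : ↥K → ℂ) T := fun l => by
    rw [AbChar.cj_apply, ← AbChar.apply_inv hKc, inv_eq_of_mul_eq_one_right hTT]
  -- the common constituent on `K`
  have hξK : ∀ y : ↥K, y ≠ 1 → (ξ₀ : G → ℂ) y = e := by
    intro y hy
    rw [apply_mem h ξ₀ y hy, ← Finset.add_sum_erase _ _
      (Finset.mem_univ (Char.principalIrr : Cfsg.IrrCharacter ↥K)), coef_principal_left h,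
      Finset.sum_congr rfl (g := fun l : Cfsg.IrrCharacter ↥K => (e : ℂ) * (l : ↥K → ℂ) y) fun l hl => by
        rw [(hcen l (Finset.mem_erase.1 hl).1).2], ← Finset.mul_sum,
      Finset.sum_erase_eq_sub (Finset.mem_univ _), AbChar.sum_apply hKc hy,
      Char.principalIrr_apply, Int.cast_zero, zero_mul]
    ring
  -- squares of values at `t`
  have hsq_t : ∀ ξ : Cfsg.IrrCharacter G, ξ ≠ Char.principalIrr → ξ ≠ ξ₀ →
      (ξ : G → ℂ) t * (ξ : G → ℂ) t =
        2 * ∑ l ∈ F, (coef K l ξ : ℂ) * (coef K l ξ : ℂ) + (coef K η ξ : ℂ) * (coef K η ξ : ℂ) := by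
    intro ξ hξ hξ0
    rw [show (ξ : G → ℂ) t = (ξ : G → ℂ) (T : G) from rfl, apply_mem h ξ T hT1, neg_mul_neg,
      Finset.sum_mul_sum]
    have hin : ∀ l : Cfsg.IrrCharacter ↥K, ∑ m : Cfsg.IrrCharacter ↥K,
        (coef K l ξ : ℂ) * (l : ↥K → ℂ) T * ((coef K m ξ : ℂ) * (m : ↥K → ℂ) T) =
        if AbChar.cj l = l then (coef K l ξ : ℂ) * (coef K l ξ : ℂ)
        else 2 * ((coef K l ξ : ℂ) * (coef K l ξ : ℂ)) := by
      intro l
      rw [← Finset.sum_subset (Finset.subset_univ ({l, AbChar.cj l} : Finset _)) fun m _ hm => by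
        simp only [Finset.mem_insert, Finset.mem_singleton, not_or] at hm
        have h0 : ((coef K l ξ * coef K m ξ : ℤ) : ℂ) = 0 := by
          rw [horth l m hm.1 hm.2 ξ hξ hξ0, Int.cast_zero]
        push_cast at h0
        linear_combination ((l : ↥K → ℂ) T * (m : ↥K → ℂ) T) * h0]
      split_ifs with hl
      · rw [hl, Finset.pair_eq_singleton, Finset.sum_singleton]
        linear_combination ((coef K l ξ : ℂ) * (coef K l ξ : ℂ)) * hTsign l
      · rw [Finset.sum_pair (Ne.symm hl), coef_cj h, hcjT]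
        linear_combination (2 * (coef K l ξ : ℂ) * (coef K l ξ : ℂ)) * hTsign l
    rw [Finset.sum_congr rfl fun l _ => hin l, sum_generic h hη hη' huniq, ← hF,
      if_pos AbChar.cj_principal, if_pos hη', coef_principal_left h, Int.cast_zero, zero_mul,
      zero_add, Finset.mul_sum, add_comm, Finset.sum_congr rfl fun l hl => if_neg
        (Finset.mem_filter.1 hl).2]
  set Yset := (supp K η).erase ξ₀ with hY
  have hY2 : Yset.card = 2 := by
    rw [hY, Finset.card_erase_of_mem (hcen η hη).1, (supp_card h hη).2.2 hη']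
  obtain ⟨Y₁, Y₂, hY12, hYeq⟩ := Finset.card_eq_two.1 hY2
  have hYmem : ∀ Y ∈ Yset, Y ∈ supp K η ∧ Y ≠ ξ₀ := fun Y hYm =>
    ⟨(Finset.mem_erase.1 hYm).2, (Finset.mem_erase.1 hYm).1⟩
  have hd : ∀ ξ : Cfsg.IrrCharacter G, (ξ : G → ℂ) 1 = (Char.degree (ξ : G → ℂ) : ℂ) := fun ξ =>
    (Char.IsCharacter.degree_cast (Char.IsIrrCharacter.isCharacter ξ.2)).symm
  have hunit : ∀ {l : Cfsg.IrrCharacter ↥K} {ξ : Cfsg.IrrCharacter G}, l ≠ Char.principalIrr →
      ξ ∈ supp K l → coef K l ξ * coef K l ξ = 1 := fun hl hξ => by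
    rcases (supp_card h hl).1 _ hξ with e' | e' <;> rw [e'] <;> norm_num
  -- the sum `Phi`
  have hPhi : ∀ g : G, Phi t g = 1 + ratio g ξ₀ + 2 * ∑ l ∈ F,
      ∑ ξ ∈ (supp K l).erase ξ₀, ratio g ξ + (ratio g Y₁ + ratio g Y₂) := by
    intro g
    set P : Cfsg.IrrCharacter G := Char.principalIrr with hP
    have e1 : ∀ l ∈ F, ∑ ξ ∈ (Finset.univ.erase P).erase ξ₀,
        (coef K l ξ : ℂ) * (coef K l ξ : ℂ) * ratio g ξ = ∑ ξ ∈ (supp K l).erase ξ₀, ratio g ξ := by
      intro l hl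
      have hlP := hgP (Finset.mem_filter.1 hl).2
      rw [← Finset.sum_subset (s₁ := (supp K l).erase ξ₀)]
      · refine Finset.sum_congr rfl fun ξ hξ => ?_
        have h1 : ((coef K l ξ * coef K l ξ : ℤ) : ℂ) = 1 := by
          rw [hunit hlP (Finset.mem_erase.1 hξ).2, Int.cast_one]
        push_cast at h1
        rw [h1, one_mul]
      · exact fun ξ hξ => Finset.mem_erase.2 ⟨(Finset.mem_erase.1 hξ).1, Finset.mem_erase.2
          ⟨(mem_supp.1 (Finset.mem_erase.1 hξ).2).1, Finset.mem_univ _⟩⟩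
      · intro ξ hξ hn
        rw [coef_eq_zero (Finset.mem_erase.1 (Finset.mem_erase.1 hξ).2).1
          fun h1 => hn (Finset.mem_erase.2 ⟨(Finset.mem_erase.1 hξ).1, h1⟩)]
        simp
    have e2 : ∑ ξ ∈ (Finset.univ.erase P).erase ξ₀,
        (coef K η ξ : ℂ) * (coef K η ξ : ℂ) * ratio g ξ = ratio g Y₁ + ratio g Y₂ := by
      rw [← Finset.sum_pair hY12, ← hYeq, ← Finset.sum_subset (s₁ := Yset)]
      · refine Finset.sum_congr rfl fun ξ hξ => ?_
        have h1 : ((coef K η ξ * coef K η ξ : ℤ) : ℂ) = 1 := by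
          rw [hunit hη (hYmem ξ hξ).1, Int.cast_one]
        push_cast at h1
        rw [h1, one_mul]
      · exact fun ξ hξ => Finset.mem_erase.2 ⟨(hYmem ξ hξ).2, Finset.mem_erase.2
          ⟨(mem_supp.1 (hYmem ξ hξ).1).1, Finset.mem_univ _⟩⟩
      · intro ξ hξ hn
        rw [coef_eq_zero (Finset.mem_erase.1 (Finset.mem_erase.1 hξ).2).1
          fun h1 => hn (Finset.mem_erase.2 ⟨(Finset.mem_erase.1 hξ).1, h1⟩)]
        simp
    have hterm : ∀ ξ : Cfsg.IrrCharacter G,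
        (ξ : G → ℂ) t * (ξ : G → ℂ) t * (ξ : G → ℂ) g / (ξ : G → ℂ) 1 =
          (ξ : G → ℂ) t * (ξ : G → ℂ) t * ratio g ξ := fun ξ => by rw [ratio, mul_div_assoc]
    rw [Phi, Finset.sum_congr rfl fun ξ _ => hterm ξ,
      ← Finset.add_sum_erase _ _ (Finset.mem_univ P),
      ← Finset.add_sum_erase _ _ (Finset.mem_erase.2 ⟨hξ₀P, Finset.mem_univ ξ₀⟩),
      Finset.sum_congr rfl (s₁ := (Finset.univ.erase P).erase ξ₀)
        (g := fun ξ => (2 * ∑ l ∈ F, (coef K l ξ : ℂ) * (coef K l ξ : ℂ) * ratio g ξ) +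
          (coef K η ξ : ℂ) * (coef K η ξ : ℂ) * ratio g ξ) fun ξ hξ => by
        rw [hsq_t ξ (Finset.mem_erase.1 (Finset.mem_erase.1 hξ).2).1 (Finset.mem_erase.1 hξ).1,
          add_mul, mul_assoc, Finset.sum_mul],
      Finset.sum_add_distrib, ← Finset.mul_sum, Finset.sum_comm, Finset.sum_congr rfl e1, e2,
      show (ξ₀ : G → ℂ) t = e from hξK T hT1, heC, one_mul]
    have hPr : ratio g P = 1 := by simp [ratio, hP]
    rw [hP, Char.principalIrr_apply, one_mul, one_mul, ← hP, hPr]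
    ring
  -- the degrees
  have hd0ne : (d₀ : ℂ) ≠ 0 := Nat.cast_ne_zero.2 (Char.IsIrrCharacter.degree_pos ξ₀.2).ne'
  have hratio0 : ∀ g, ratio g ξ₀ = (e : ℂ) * (ξ₀ : G → ℂ) g / (sg : ℂ) := fun g => by
    rw [signed_ratio g ξ₀ he, hsg]; push_cast; rfl
  have hXdata : ∀ l ∈ F, (1 + sg ≠ 0) ∧ ∀ g, ∑ ξ ∈ (supp K l).erase ξ₀, ratio g ξ =
      (phi K l g - 1 - (e : ℂ) * (ξ₀ : G → ℂ) g) / (-(1 + (sg : ℂ))) := by
    intro l hl
    have hlP := hgP (Finset.mem_filter.1 hl).2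
    obtain ⟨X, hX, hne⟩ := hother l hl
    have hdeg := supp_degree h hlP
    rw [hX, Finset.sum_pair hne, (hcen l hlP).2, ← hd₀, ← hsg] at hdeg
    have hXm : X ∈ supp K l := by simp [hX]
    have hdX : 0 < Char.degree (X : G → ℂ) := Char.IsIrrCharacter.degree_pos X.2
    refine ⟨fun h0 => ?_, fun g => ?_⟩
    · rcases (supp_card h hlP).1 X hXm with e' | e' <;> rw [e'] at hdeg <;> omega
    · have hv := supp_value h hlP g
      rw [hX, Finset.sum_pair hne, (hcen l hlP).2] at hv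
      rw [hX, Finset.erase_insert (by simpa using hne), Finset.sum_singleton,
        signed_ratio g X (hunit hlP hXm), hv]
      have hx : ((coef K l X : ℂ) * (Char.degree (X : G → ℂ) : ℂ)) = -(1 + (sg : ℂ)) := by
        have := congrArg (fun z : ℤ => (z : ℂ)) hdeg
        push_cast at this
        linear_combination this
      rw [hx]
      congr 1
      ring
  obtain ⟨l₀, hl₀⟩ : F.Nonempty := by
    have := card_generic h hη hη' huniq
    rw [← hF] at this
    exact Finset.card_pos.1 (by omega)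
  have h1sg : (1 + (sg : ℂ)) ≠ 0 := by
    have := (hXdata l₀ hl₀).1
    exact_mod_cast this
  have hsgC : (sg : ℂ) ≠ 0 := by
    rw [hsg]; push_cast
    refine mul_ne_zero (fun e' => ?_) hd0ne
    rw [e', zero_mul] at heC
    exact zero_ne_one heC
  -- the two constituents of `phi η`
  have hY₁ : Y₁ ∈ Yset := by simp [hYeq]
  have hY₂ : Y₂ ∈ Yset := by simp [hYeq]
  set A : ℂ := (coef K η Y₁ : ℂ) * (Char.degree (Y₁ : G → ℂ) : ℂ) with hA
  set B : ℂ := (coef K η Y₂ : ℂ) * (Char.degree (Y₂ : G → ℂ) : ℂ) with hB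
  have hsη : ∀ f : Cfsg.IrrCharacter G → ℂ, ∑ ξ ∈ supp K η, f ξ = f ξ₀ + (f Y₁ + f Y₂) := fun f => by
    rw [← Finset.add_sum_erase _ _ (hcen η hη).1, ← hY, hYeq, Finset.sum_pair hY12]
  have hAB : A + B = -(1 + (sg : ℂ)) := by
    have h1 := congrArg (fun z : ℤ => (z : ℂ)) (supp_degree h hη)
    push_cast at h1
    rw [hsη, (hcen η hη).2, ← hd₀] at h1
    rw [hsg]; push_cast
    linear_combination h1
  have hYval : ∀ g, (coef K η Y₁ : ℂ) * (Y₁ : G → ℂ) g + (coef K η Y₂ : ℂ) * (Y₂ : G → ℂ) g =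
      phi K η g - 1 - (e : ℂ) * (ξ₀ : G → ℂ) g := fun g => by
    have h1 := supp_value h hη g
    rw [hsη, (hcen η hη).2] at h1
    linear_combination -h1
  have hYone : ∀ Y ∈ Yset, ∀ y : ↥K, y ≠ 1 →
      (coef K η Y : ℂ) * (Y : G → ℂ) y = -(η : ↥K → ℂ) y := by
    intro Y hYm y hy
    obtain ⟨hYs, hY0⟩ := hYmem Y hYm
    rw [apply_mem h Y y hy, Finset.sum_eq_single η]
    · have h1 : ((coef K η Y * coef K η Y : ℤ) : ℂ) = 1 := by rw [hunit hη hYs, Int.cast_one]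
      push_cast at h1
      linear_combination (-(η : ↥K → ℂ) y) * h1
    · intro l _ hl
      have h0 := horth η l hl (by rwa [hη']) Y (mem_supp.1 hYs).1 hY0
      have h1 : coef K η Y ≠ 0 := (mem_supp.1 hYs).2
      rw [(mul_eq_zero.1 h0).resolve_left h1, Int.cast_zero, zero_mul]
    · exact fun h1 => absurd (Finset.mem_univ η) h1
  -- `Phi` on `K`
  have hPhiK : ∀ y : ↥K, y ≠ 1 → Phi t (y : G) = 1 + 1 / (sg : ℂ) +
      4 * (-1 - (η : ↥K → ℂ) y) / (1 + (sg : ℂ)) - (η : ↥K → ℂ) y * (1 / A + 1 / B) := by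
    intro y hy
    rw [hPhi, hratio0, hξK y hy, heC,
      signed_ratio _ Y₁ (hunit hη (hYmem Y₁ hY₁).1), signed_ratio _ Y₂ (hunit hη (hYmem Y₂ hY₂).1),
      hYone Y₁ hY₁ y hy, hYone Y₂ hY₂ y hy, ← hA, ← hB,
      Finset.sum_congr rfl (g := fun l : Cfsg.IrrCharacter ↥K =>
        ((l : ↥K → ℂ) y + (AbChar.cj l : ↥K → ℂ) y) / (1 + (sg : ℂ))) fun l hl => by
        rw [(hXdata l hl).2, phi_apply_mem h, hξK y hy, heC, AbChar.cj_apply, div_neg,
          ← neg_div]
        congr 1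
        ring]
    rw [← Finset.sum_div, Finset.sum_add_distrib]
    have hs1 := sum_generic_apply h hη hη' huniq hy
    rw [← hF] at hs1
    have hs2 : ∑ l ∈ F, (AbChar.cj l : ↥K → ℂ) y = ∑ l ∈ F, (l : ↥K → ℂ) y := by
      refine Finset.sum_nbij' AbChar.cj AbChar.cj ?_ ?_ (fun l _ => AbChar.cj_cj l)
        (fun l _ => AbChar.cj_cj l) (fun l _ => rfl)
      all_goals
        intro l hl
        simp only [hF, Finset.mem_coe, Finset.coe_filter, Finset.mem_filter, Finset.mem_univ,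
          true_and, Set.mem_setOf_eq] at hl ⊢
        rw [AbChar.cj_cj]
        exact hl.symm
    rw [hs2, hs1]
    ring
  -- two elements with different signs
  have hKval : ∀ y : ↥K, y ≠ 1 →
      4 * (Nat.card ↥K : ℂ) ^ 3 = (Nat.card G : ℂ) * Phi t (y : G) := by
    intro y hy
    rw [← pairs_formula h (y : G), h.pairs_mem y.2 fun e' => hy (Subtype.ext e')]
    ring
  have hGC : (Nat.card G : ℂ) ≠ 0 := Nat.cast_ne_zero.2 Nat.card_pos.ne'
  obtain ⟨y₁, hy₁, hη₁⟩ : ∃ y : ↥K, y ≠ 1 ∧ (η : ↥K → ℂ) y = 1 := by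
    by_contra! hc
    obtain ⟨y, hy⟩ := hneg
    -- otherwise every square is trivial
    have hall : ∀ x : ↥K, x * x = 1 := fun x => by
      by_contra hx
      exact hc (x * x) hx (hsq x)
    have hle : Nat.card ↥K ≤ 2 := by
      have hmap : ∀ x : ↥K, x = 1 ∨ x = T := fun x => by
        rcases h.sq_eq_one x.2 (by rw [pow_two]; exact congrArg Subtype.val (hall x)) with e' | e'
        · exact Or.inl (Subtype.ext e')
        · exact Or.inr (Subtype.ext e')
      have : (Finset.univ : Finset ↥K) ⊆ {1, T} := fun x _ => by simpa using hmap x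
      have h2 := Finset.card_le_card this
      rw [Finset.card_univ, ← Nat.card_eq_fintype_card] at h2
      exact h2.trans Finset.card_le_two
    omega
  obtain ⟨y₂, hη₂⟩ := hneg
  have hy₂ : y₂ ≠ 1 := fun e' => by
    rw [e', AbChar.apply_one hKc] at hη₂
    norm_num at hη₂
  have hu : 1 / A + 1 / B = -4 / (1 + (sg : ℂ)) := by
    have h1 := (hKval y₁ hy₁).symm.trans (hKval y₂ hy₂)
    have h2 := mul_left_cancel₀ hGC h1
    rw [hPhiK y₁ hy₁, hPhiK y₂ hy₂, hη₁, hη₂] at h2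
    linear_combination (-(1 : ℂ) / 2) * h2
  have hAne : A ≠ 0 := by
    refine mul_ne_zero (Int.cast_ne_zero.2 (mem_supp.1 (hYmem Y₁ hY₁).1).2) ?_
    exact Nat.cast_ne_zero.2 (Char.IsIrrCharacter.degree_pos Y₁.2).ne'
  have hBne : B ≠ 0 := by
    refine mul_ne_zero (Int.cast_ne_zero.2 (mem_supp.1 (hYmem Y₂ hY₂).1).2) ?_
    exact Nat.cast_ne_zero.2 (Char.IsIrrCharacter.degree_pos Y₂.2).ne'
  have hAB2 : A = B := by
    have h1 : (A + B) * (1 + (sg : ℂ)) = -4 * (A * B) := by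
      field_simp at hu
      linear_combination hu
    have h2 : (A - B) * (A - B) = 0 := by
      linear_combination (A + B) * hAB - h1
    exact sub_eq_zero.1 (mul_self_eq_zero.1 h2)
  have hA2 : 2 * A = -(1 + (sg : ℂ)) := by rw [← hAB, ← hAB2]; ring
  refine ⟨sg, by exact_mod_cast hsgC, fun e' => h1sg (by rw [e']; norm_num), ?_, ?_, ?_⟩
  · -- congruence from the restriction to the centralizer of `t`
    haveI := Fintype.ofFinite ↥(Subgroup.centralizer ({t} : Set G))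
    obtain ⟨z, hz⟩ := CharExc.exists_int_classInner
      (Char.IsGeneralizedCharacter.restrict (Char.IsIrrCharacter.isGeneralizedCharacter ξ₀.2)
        (Subgroup.centralizer ({t} : Set G)))
      (Char.isIrrCharacter_principal (G := ↥(Subgroup.centralizer ({t} : Set G))))
    have hsum : ∀ x : ↥(Subgroup.centralizer ({t} : Set G)), x ≠ 1 →
        (ξ₀ : G → ℂ) x = e := by
      intro x hx
      by_cases hxK : (x : G) ∈ K
      · exact hξK ⟨x, hxK⟩ fun e' => hx (Subtype.ext (congrArg Subtype.val e' :))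
      · rw [← Char.IsClassFunction.eq_of_isConj (Char.IsIrrCharacter.isClassFunction ξ₀.2)
          (h.hconj t x h.ht (h.refl x.2 hxK).1)]
        exact hξK T hT1
    rw [Cfsg.classInner, ← Finset.add_sum_erase _ _ (Finset.mem_univ 1),
      Finset.sum_congr rfl (s₁ := Finset.univ.erase 1) (g := fun _ => (e : ℂ)) fun x hx => by
        rw [map_one, mul_one]; exact hsum x (Finset.mem_erase.1 hx).1,
      Finset.sum_const, nsmul_eq_mul, Finset.card_erase_of_mem (Finset.mem_univ _),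
      Finset.card_univ, ← Nat.card_eq_fintype_card, map_one, mul_one,
      h.card_H, Subgroup.coe_one, hd, ← hd₀, Nat.cast_sub (by omega)] at hz
    push_cast at hz
    refine ⟨e * z - 1, ?_⟩
    have h2 : (sg : ℂ) = ((1 + 2 * (Nat.card ↥K : ℤ) * (e * z - 1) : ℤ) : ℂ) := by
      have hkne : (2 * (Nat.card ↥K : ℂ)) ≠ 0 :=
        mul_ne_zero two_ne_zero (Nat.cast_ne_zero.2 Nat.card_pos.ne')
      rw [inv_mul_eq_iff_eq_mul₀ hkne] at hz
      rw [hsg]; push_cast
      linear_combination (e : ℂ) * hz - (2 * (Nat.card ↥K : ℂ) - 1) * heC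
    exact_mod_cast h2
  · rw [hKval y₁ hy₁, hPhiK y₁ hy₁, hη₁, hu]
    field_simp
    ring
  · intro z hz
    refine ⟨(e : ℂ) * (ξ₀ : G → ℂ) z, ?_, ?_⟩
    · exact (isIntegral_algebraMap (x := e)).mul (Char.IsGeneralizedCharacter.isIntegral_apply
        (Char.IsIrrCharacter.isGeneralizedCharacter ξ₀.2) z)
    · have hP : 4 * (Nat.card ↥K : ℂ) ^ 2 * (pairs z : ℂ) = (Nat.card G : ℂ) * Phi t z := by
        rw [← pairs_formula h z]; ring
      rw [hP, mul_assoc]
      congr 1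
      rw [hPhi, hratio0, signed_ratio _ Y₁ (hunit hη (hYmem Y₁ hY₁).1),
        signed_ratio _ Y₂ (hunit hη (hYmem Y₂ hY₂).1), ← hA, ← hB, ← hAB2, ← add_div,
        hYval, phi_eq_zero h η hz,
        Finset.sum_congr rfl (g := fun _ =>
          (1 + (e : ℂ) * (ξ₀ : G → ℂ) z) / (1 + (sg : ℂ))) fun l hl => by
          rw [(hXdata l hl).2, phi_eq_zero h l hz, div_neg, ← neg_div]
          congr 1
          ring]
      have hc : (F.card : ℂ) = (Nat.card ↥K : ℂ) - 2 := by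
        have h0 := card_generic h hη hη' huniq
        rw [← hF] at h0
        rw [← h0]; push_cast; ring
      rw [Finset.sum_const, nsmul_eq_mul, hc, show A = -(1 + (sg : ℂ)) / 2 by rw [← hA2]; ring]
      field_simp
      ring

/-- The two possible orders. -/
theorem orders (hk : 4 ≤ Nat.card ↥K) :
    ∃ j : ℤ, (j = 1 ∨ j = -1) ∧
      (Nat.card {v : G // orderOf v = 2} : ℤ) =
        (2 * (Nat.card ↥K : ℤ) * j + 1) * ((Nat.card ↥K : ℤ) * j + 1) ∧
      ∀ z : G, Outside K z → ∃ σ : ℤ, 2 * (pairs z : ℤ) =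
        2 * (Nat.card ↥K : ℤ) + j + 2 * (Nat.card ↥K : ℤ) * j + 1 +
          σ * (2 * (Nat.card ↥K : ℤ) * j + 1 - j) := by
  obtain ⟨sg, hsg0, hsg1, ⟨j, hj⟩, hA, hB⟩ := formula h hk
  set k : ℤ := (Nat.card ↥K : ℤ) with hkdef
  have hk4 : 4 ≤ k := by omega
  set n : ℤ := (Nat.card {v : G // orderOf v = 2} : ℤ) with hn
  have hG : (Nat.card G : ℂ) = ((2 * k * n : ℤ) : ℂ) := by
    rw [h.card_G, hkdef, hn]; push_cast; ring
  have hkC : (Nat.card ↥K : ℂ) = ((k : ℤ) : ℂ) := by rw [hkdef, Int.cast_natCast]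
  rw [hG, hkC] at hA
  have hA' : 4 * k ^ 3 * (sg * (1 + sg)) = 2 * k * n * (sg - 1) ^ 2 := by exact_mod_cast hA
  have h1 : (1 + 2 * k * j) * (1 + k * j) = n * j * j := by
    have h8 : (8 * k ^ 3) * ((1 + 2 * k * j) * (1 + k * j)) = (8 * k ^ 3) * (n * j * j) := by
      rw [hj] at hA'
      linear_combination hA'
    exact mul_left_cancel₀ (by positivity) h8
  have hjj : j * (n * j - 3 * k - 2 * k * k * j) = 1 := by linear_combination -h1
  have hj1 : j = 1 ∨ j = -1 := Int.eq_one_or_neg_one_of_mul_eq_one hjj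
  have hjsq : j * j = 1 := by rcases hj1 with rfl | rfl <;> norm_num
  have hn' : n = (2 * k * j + 1) * (k * j + 1) := by
    linear_combination -h1 - n * hjsq
  refine ⟨j, hj1, hn', fun z hz => ?_⟩
  obtain ⟨σ, hσ, hσ'⟩ := hB z hz
  rw [hG, hkC] at hσ'
  have hcoef : 2 * k * j + 1 - j ≠ 0 := by
    rcases hj1 with rfl | rfl <;> omega
  have hσval : σ = (((2 * (pairs z : ℤ) - (2 * k + j + 2 * k * j + 1) : ℤ) : ℚ) /
      ((2 * k * j + 1 - j : ℤ) : ℚ) : ℚ) := by
    have hne : ((2 * k * j + 1 - j : ℤ) : ℂ) ≠ 0 := Int.cast_ne_zero.2 hcoef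
    rw [Rat.cast_div, Rat.cast_intCast, Rat.cast_intCast, eq_div_iff hne]
    rw [hn', hj] at hσ'
    have h4 : (4 * (k : ℂ) ^ 2 * ((1 + 2 * k * j) * (2 + 2 * k * j))) ≠ 0 := by
      have : 4 * k ^ 2 * ((1 + 2 * k * j) * (2 + 2 * k * j)) ≠ 0 := by
        have h2 : 1 + 2 * k * j ≠ 0 := by rcases hj1 with rfl | rfl <;> omega
        have h3 : 2 + 2 * k * j ≠ 0 := by rcases hj1 with rfl | rfl <;> omega
        have h5 : k ≠ 0 := by omega
        positivity
      exact_mod_cast this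
    refine mul_left_cancel₀ h4 ?_
    push_cast at hσ' ⊢
    have hjC : (j : ℂ) * (j : ℂ) = 1 := by exact_mod_cast hjsq
    rcases hj1 with rfl | rfl <;> push_cast at hσ' ⊢ <;> linear_combination -2 * hσ'
  obtain ⟨σ', hσ''⟩ := Char.exists_int_of_isIntegral_ratCast (hσval ▸ hσ)
  refine ⟨σ', ?_⟩
  have hne : ((2 * k * j + 1 - j : ℤ) : ℚ) ≠ 0 := Int.cast_ne_zero.2 hcoef
  rw [eq_div_iff hne] at hσ''
  have : σ' * (2 * k * j + 1 - j) = 2 * (pairs z : ℤ) - (2 * k + j + 2 * k * j + 1) := by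
    exact_mod_cast hσ''
  omega

end CfsgLib.InvChar.BSW
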