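import Cfsg.Agent.Lib.InvChar.BSW.PLocal

/-!
# The case of a torus of odd order
-/

set_option autoImplicit false

open scoped Classical

namespace CfsgLib.InvChar.BSW

variable {G : Type*} [Group G]

local notation "C(" x ")" => Subgroup.centralizer ({x} : Set _)

variable [Finite G] {t s : G} {K : Subgroup G} (h : Hyp t s K)
include h

omit [Finite G] in
theorem Hyp.torus_K : Torus K := by
  refine ⟨fun x hx hx2 => h.cent_eq hx hx2, fun g x hx hx2 hgx => ?_⟩
  have hg := h.hTI g x hx (fun e => hx2 (by rw [e, one_pow])) hgx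
  by_cases hgK : g ∈ K
  · exact K.mul_mem hgK hgK
  · rw [Invol.mul_self_eq_one (h.refl hg hgK).1]; exact K.one_mem

theorem minus_case (hk : 4 ≤ Nat.card K)
    (hn : (Nat.card {v : G // orderOf v = 2} : ℤ) =
      (2 * (Nat.card K : ℤ) - 1) * ((Nat.card K : ℤ) - 1))
    (hP : ∀ z : G, Outside K z → ∃ σ : ℤ, (pairs z : ℤ) = σ * ((Nat.card K : ℤ) - 1)) :
    Conclusion G := by
  haveI := Fintype.ofFinite G
  set k := Nat.card K with hkdef
  set n := Nat.card {v : G // orderOf v = 2} with hndef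
  obtain ⟨r, hr⟩ : ∃ r, k = r + 1 := ⟨k - 1, by omega⟩
  set q := 2 * r + 1 with hqdef
  have hn' : n = q * r := by
    rw [hr] at hn; push_cast at hn
    have : (n : ℤ) = ((q * r : ℕ) : ℤ) := by rw [hn, hqdef]; push_cast; ring
    exact_mod_cast this
  have hg : Nat.card G = 2 * (r + 1) * (q * r) := by
    rw [h.card_G, ← hkdef, ← hndef, hr, hn']
  have hkev := h.even_card
  rw [← hkdef, hr] at hkev
  have hr3 : 3 ≤ r := by omega
  have hdvd : ∀ z, Outside K z → r ∣ pairs z := by
    intro z hz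
    obtain ⟨σ, hσ⟩ := hP z hz
    rw [hr] at hσ
    refine Int.natCast_dvd_natCast.1 ⟨σ, ?_⟩
    push_cast at hσ
    linarith
  set O := Finset.univ.filter (Outside K) with hO
  have hsum := h.sum_pairs
  rw [← hkdef, ← hndef, hr, Nat.add_sub_cancel, ← hO] at hsum
  have hsm : ∑ x ∈ O, pairs x + q * r * (r + 1) = q * r * (r * (r + 1)) := by
    rw [hn', hqdef] at hsum
    rw [hqdef]
    linarith
  obtain ⟨z, hzO, hzp⟩ : ∃ z ∈ O, pairs z ≠ 0 := by
    by_contra! hc
    rw [Finset.sum_eq_zero hc, zero_add] at hsm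
    have h1 : q * r * (r + 1) * 2 ≤ q * r * (r * (r + 1)) := by
      calc q * r * (r + 1) * 2 ≤ q * r * (r + 1) * r := Nat.mul_le_mul_left _ (by omega)
        _ = q * r * (r * (r + 1)) := by ring
    have h2 : 0 < q * r * (r + 1) := by positivity
    omega
  have hzout := (Finset.mem_filter.1 hzO).2
  -- the torus
  set A : Subgroup G := C(z) with hA
  obtain ⟨v, hv, hinv⟩ := h.exists_inverting hzout hzp
  obtain ⟨c, hc, -, hmk⟩ := h.stab_bound hzout hv hinv
  obtain ⟨hNcard, hNsup, -⟩ := h.card_normalizer hzout hv hinv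
  set N := Subgroup.normalizer (A : Set G) with hNdef
  set S := N ⊓ C(v) with hSdef
  set a := Nat.card A with hadef
  set m := Nat.card S with hmdef
  have hvN : v ∈ N := Subgroup.mem_normalizer_iff.2 fun x => by
    refine ⟨fun hx => by rw [hinv x hx]; exact A.inv_mem hx, fun hx => ?_⟩
    have h1 := hinv _ hx
    have e : v * (v * x * v⁻¹) * v⁻¹ = x := by
      rw [show v * (v * x * v⁻¹) * v⁻¹ = (v * v) * x * (v * v)⁻¹ by group,
        Invol.mul_self_eq_one hv]
      group
    rw [e] at h1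
    rw [h1]; exact A.inv_mem hx
  have hvS : v ∈ S := Subgroup.mem_inf.2 ⟨hvN, mem_cent.2 rfl⟩
  have ha1 : 1 < a := by
    rw [hadef, Subgroup.one_lt_card_iff_ne_bot]
    intro e
    exact hzout.1 (Subgroup.mem_bot.1 (e ▸ (mem_cent.2 rfl : z ∈ A)))
  have hra : r ∣ a := by
    have h1 := hdvd z hzout
    rwa [h.pairs_eq_cent hzout hzp] at h1
  have hcentA : ∀ x ∈ A, x ≠ 1 → C(x) = A := fun x hx hx1 => (h.cent_eq_of_mem hzout hzp hx hx1).1
  -- all strongly real outside elements are conjugate into `A`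
  have hpos_spread : ∀ w, Outside K w → pairs w ≠ 0 → w ∈ spread A := by
    intro w hw hwp
    have h1 := hdvd w hw
    rw [h.pairs_eq_cent hw hwp] at h1
    obtain ⟨p, hp, hpr⟩ := Nat.exists_prime_and_dvd (show r ≠ 1 by omega)
    haveI := Fact.mk hp
    obtain ⟨x, hx⟩ := exists_prime_orderOf_dvd_card' p (hpr.trans h1)
    have hx' : orderOf (x : G) = p := by rw [Subgroup.orderOf_coe, hx]
    have hx1 : (x : G) ≠ 1 := fun e => by rw [e, orderOf_one] at hx'; exact hp.ne_one hx'.symm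
    obtain ⟨-, g, hgx⟩ := mem_spread_of_prime (A := A)
      (fun y hy hyr => (hcentA y hy fun e => by
        rw [e, orderOf_one] at hyr; exact hp.ne_one hyr.symm).le) (hpr.trans hra) hx'
    refine ⟨hw.1, g, ?_⟩
    rw [← hcentA _ hgx fun e => hx1 (conj_eq_one_iff.1 e), mem_cent_conj]
    simpa [mul_assoc] using (mem_cent.2 (mem_cent.1 x.2).symm : w ∈ C((x : G)))
  have hspread_mem : ∀ w ∈ spread A, Outside K w ∧ pairs w = a := by
    rintro w ⟨hw1, g, hgw⟩
    have hne : g * w * g⁻¹ ≠ 1 := fun e => hw1 (conj_eq_one_iff.1 e)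
    have ho := h.outside_of_mem hzout hgw hne
    obtain ⟨hC, hp⟩ := h.cent_eq_of_mem hzout hzp hgw hne
    refine ⟨by simpa [mul_assoc] using h.outside_conj ho g⁻¹, ?_⟩
    rw [← Hyp.pairs_conj' g w, h.pairs_eq_cent ho hp, hC]
  set Sp := Nat.card (spread A) with hSp
  have hsm' : ∑ x ∈ O, pairs x = a * Sp := by
    rw [hSp, Nat.card_eq_card_toFinset,
      ← Finset.sum_subset (s₁ := (spread A).toFinset) (fun x hx =>
        Finset.mem_filter.2 ⟨Finset.mem_univ _, (hspread_mem x (Set.mem_toFinset.1 hx)).1⟩)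
        (fun x hx hn => by
          by_contra hp
          exact hn (Set.mem_toFinset.2 (hpos_spread x (Finset.mem_filter.1 hx).2 hp))),
      Finset.sum_congr rfl (g := fun _ => a) (fun x hx => (hspread_mem x (Set.mem_toFinset.1 hx)).2),
      Finset.sum_const, smul_eq_mul, mul_comm]
  have hsp := card_spread A N
    (fun g x hx hx1 hgx => h.ti hzout hzp hx hx1 hgx)
    (fun g hg x hx => (Subgroup.mem_normalizer_iff.1 hg x).1 hx)
  rw [hNcard, hg] at hsp
  rw [hsm'] at hsm
  -- the numerical values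
  have hm2 : 2 ∣ m := hv ▸ Subgroup.orderOf_dvd_natCard S hvS
  obtain ⟨m', hm'⟩ := hm2
  have hmle : m ≤ r + 1 := Nat.le_of_dvd (by omega) (hr ▸ hmk)
  obtain ⟨a', ha'⟩ : ∃ a', a = a' + 1 := ⟨a - 1, by omega⟩
  have hkey : m' * (r - 1) = a' := by
    obtain ⟨r', hr'⟩ : ∃ r', r = r' + 1 := ⟨r - 1, by omega⟩
    have h1 : a * Sp = q * r * (r + 1) * r' := by
      rw [hr'] at hsm ⊢
      linarith
    have hsp' : Sp * (a * m) = 2 * (r + 1) * (q * r) * a' := by
      rw [← show a - 1 = a' by omega]; exact hsp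
    have h2 : q * r * (r + 1) * r' * m = 2 * (r + 1) * (q * r) * a' := by
      rw [← h1, ← hsp']; ring
    rw [hr', Nat.add_sub_cancel]
    rw [hm'] at h2
    refine Nat.eq_of_mul_eq_mul_left (show 0 < q * r * (r + 1) * 2 by positivity) ?_
    linarith
  obtain ⟨j, hj⟩ := hra
  have hm'1 : m' = 1 := by
    have hm'pos : 0 < m' := by
      rcases Nat.eq_zero_or_pos m' with e | e
      · rw [e, zero_mul] at hkey; omega
      · exact e
    have h3 : r ∣ m' * r - m' + 1 := ⟨j, by rw [← Nat.mul_sub_one, hkey, ← ha', hj]⟩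
    have h4 : r ∣ (m' * r + 1) - m' := by
      have : m' ≤ m' * r := Nat.le_mul_of_pos_right _ (by omega)
      rwa [show (m' * r + 1) - m' = m' * r - m' + 1 by omega]
    have h5 : r ∣ m' - 1 := by
      have h6 : m' * r = ((m' * r + 1) - m') + (m' - 1) := by
        have : m' ≤ m' * r := Nat.le_mul_of_pos_right _ (by omega)
        omega
      exact (Nat.dvd_add_right h4).1 (h6 ▸ dvd_mul_left r m')
    rcases Nat.eq_zero_or_pos (m' - 1) with e | e
    · omega
    · have := Nat.le_of_dvd e h5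
      omega
  rw [hm'1, one_mul] at hkey
  have har : a = r := by omega
  have hS : S = Subgroup.zpowers v :=
    (Subgroup.eq_of_le_of_card_ge (Subgroup.zpowers_le.2 hvS) (by
      rw [← hmdef, Nat.card_zpowers, hv, hm', hm'1])).symm
  have hNA : N = A ⊔ Subgroup.zpowers v := by rw [hNsup, hS]
  -- the remaining elements
  have hSpval : Sp = q * (r + 1) * (r - 1) := by
    obtain ⟨r', hr'⟩ : ∃ r', r = r' + 1 := ⟨r - 1, by omega⟩
    rw [har] at hsm
    rw [hr', Nat.add_sub_cancel]
    rw [hr'] at hsm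
    refine Nat.eq_of_mul_eq_mul_left (show 0 < r' + 1 by omega) ?_
    linarith
  set W := O \ (spread A).toFinset with hW
  have hWcard : W.card = 4 * r * (r + 1) := by
    have hsub : (spread A).toFinset ⊆ O := fun x hx =>
      Finset.mem_filter.2 ⟨Finset.mem_univ _, (hspread_mem x (Set.mem_toFinset.1 hx)).1⟩
    have hcount : O.card + q * r * r + 1 = 2 * (r + 1) * (q * r) := by
      rw [← hg, ← h.card_outside, ← hkdef, ← hndef, hn', hr, Nat.add_sub_cancel,
        Nat.card_eq_fintype_card, Fintype.card_subtype]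
    have h1 := Finset.card_sdiff_add_card_eq_card hsub
    rw [← hW, ← Nat.card_eq_card_toFinset, ← hSp, hSpval] at h1
    obtain ⟨r', hr'⟩ : ∃ r', r = r' + 1 := ⟨r - 1, by omega⟩
    rw [hr', Nat.add_sub_cancel] at h1
    rw [hqdef, hr'] at hcount h1
    rw [hr']
    linarith
  have hWmem : ∀ {w : G}, w ∈ W ↔ Outside K w ∧ w ∉ spread A := fun {w} => by
    simp [hW, hO]
  have hW0 : ∀ {w : G}, w ∈ W → pairs w = 0 := fun {w} hw => by
    by_contra hp
    exact (hWmem.1 hw).2 (hpos_spread w (hWmem.1 hw).1 hp)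
  have hWcent : ∀ {w x : G}, w ∈ W → x ∈ C(w) → x ≠ 1 → x ∈ W := by
    intro w x hw hx hx1
    obtain ⟨hwo, hwA⟩ := hWmem.1 hw
    refine hWmem.2 ⟨h.outside_of_mem hwo hx hx1, fun hs => hwA ⟨hwo.1, ?_⟩⟩
    obtain ⟨-, g, hgx⟩ := hs
    refine ⟨g, ?_⟩
    rw [← hcentA _ hgx fun e => hx1 (conj_eq_one_iff.1 e), mem_cent_conj]
    simpa [mul_assoc] using (mem_cent.2 (mem_cent.1 hx).symm : w ∈ C(x))
  have hKprime : ∀ {p : ℕ}, p.Prime → p ∣ r + 1 → ∀ {x : G}, orderOf x = p → x ∈ spread K := by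
    intro p hp hpk x hx
    by_cases hp2 : p = 2
    · exact h.invol_mem_spread (hp2 ▸ hx)
    haveI := Fact.mk hp
    refine mem_spread_of_prime (A := K) (r := p) (fun y hy hyp => (h.cent_eq hy fun e => hp2 ?_).le)
      (by rw [← hkdef, hr]; exact hpk) hx
    have h1 := orderOf_dvd_of_pow_eq_one e
    rw [hyp] at h1
    exact ((Nat.dvd_prime Nat.prime_two).1 h1).resolve_left hp.ne_one
  have hAprime : ∀ {p : ℕ}, p.Prime → p ∣ r → ∀ {x : G}, orderOf x = p → x ∈ spread A := by
    intro p hp hpr x hx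
    haveI := Fact.mk hp
    exact mem_spread_of_prime (A := A) (fun y hy hyr => (hcentA y hy fun e => by
      rw [e, orderOf_one] at hyr; exact hp.ne_one hyr.symm).le)
      (by rw [← hadef, har]; exact hpr) hx
  have hqprime : ∀ {w : G}, w ∈ W → Nat.card (C(w) : Subgroup G) ∣ q := by
    intro w hw
    set cw := Nat.card (C(w) : Subgroup G) with hcw
    have hodd := h.odd_cent (hWmem.1 hw).1
    rw [← hcw] at hodd
    have hcop1 : Nat.Coprime cw (2 * (r + 1)) := by
      refine Nat.Coprime.mul_right (Nat.coprime_two_right.2 hodd) (Nat.coprime_of_dvd ?_)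
      intro p hp hpc hpk
      haveI := Fact.mk hp
      obtain ⟨x, hx⟩ := exists_prime_orderOf_dvd_card' p hpc
      have hx' : orderOf (x : G) = p := by rw [Subgroup.orderOf_coe, hx]
      have hx1 : (x : G) ≠ 1 := fun e => by rw [e, orderOf_one] at hx'; exact hp.ne_one hx'.symm
      exact (hWmem.1 (hWcent hw x.2 hx1)).1.2 (hKprime hp hpk hx')
    have hcop2 : Nat.Coprime cw r := by
      refine Nat.coprime_of_dvd ?_
      intro p hp hpc hpr
      haveI := Fact.mk hp
      obtain ⟨x, hx⟩ := exists_prime_orderOf_dvd_card' p hpc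
      have hx' : orderOf (x : G) = p := by rw [Subgroup.orderOf_coe, hx]
      have hx1 : (x : G) ≠ 1 := fun e => by rw [e, orderOf_one] at hx'; exact hp.ne_one hx'.symm
      exact (hWmem.1 (hWcent hw x.2 hx1)).2 (hAprime hp hpr hx')
    have hd : cw ∣ 2 * (r + 1) * (q * r) := hg ▸ Subgroup.card_subgroup_dvd_card _
    exact hcop2.dvd_of_dvd_mul_right (hcop1.dvd_of_dvd_mul_left hd)
  have hnreal : ∀ {w : G}, w ∈ W → ¬ IsConj w w⁻¹ := by
    intro w hw hconjw
    obtain ⟨x, hx⟩ := isConj_iff.1 hconjw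
    have hwo := (hWmem.1 hw).1
    have hx2 : x * x ∈ C(w) := by
      rw [mem_cent, ← mul_inv_eq_iff_eq_mul,
        show x * x * w * (x * x)⁻¹ = x * (x * w * x⁻¹) * x⁻¹ by group, hx,
        show x * w⁻¹ * x⁻¹ = (x * w * x⁻¹)⁻¹ by group, hx, inv_inv]
    obtain ⟨jj, hjj⟩ := h.odd_cent hwo
    set v' := x ^ (Nat.card (C(w) : Subgroup G)) with hv'
    have hv'2 : v' * v' = 1 := by
      rw [hv', ← (Commute.refl x).mul_pow]
      exact congrArg Subtype.val (pow_card_eq_one' (x := (⟨x * x, hx2⟩ : (C(w) : Subgroup G))))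
    have hv'inv : v' * w * v'⁻¹ = w⁻¹ := by
      rw [hv', hjj, pow_succ', pow_mul, pow_two]
      have hc : ((x * x) ^ jj) * w * ((x * x) ^ jj)⁻¹ = w :=
        mul_inv_eq_iff_eq_mul.2 (mem_cent.1 (Subgroup.pow_mem _ hx2 jj))
      calc x * (x * x) ^ jj * w * (x * (x * x) ^ jj)⁻¹
          = x * ((x * x) ^ jj * w * ((x * x) ^ jj)⁻¹) * x⁻¹ := by group
        _ = w⁻¹ := by rw [hc, hx]
    have hv'1 : v' ≠ 1 := fun e => by
      rw [e, one_mul, inv_one, mul_one] at hv'inv
      exact h.outside_sq hwo (by rw [pow_two]; nth_rw 2 [hv'inv]; exact mul_inv_cancel w)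
    have h0 := hW0 hw
    unfold pairs at h0
    rw [Invol.card_pairs_eq (h.outside_sq hwo), Nat.card_eq_zero] at h0
    rcases h0 with h0 | h0
    · exact h0.false ⟨v', Invol.orderOf_eq_two hv'1 hv'2, hv'inv⟩
    · exact h0.not_finite (inferInstanceAs (Finite _))
  have hWconj : ∀ {w : G}, w ∈ W → ∀ g, g * w * g⁻¹ ∈ W := by
    intro w hw g
    refine hWmem.2 ⟨h.outside_conj (hWmem.1 hw).1 g, fun hs => (hWmem.1 hw).2 ?_⟩
    have := spread_conj hs g⁻¹
    simpa [mul_assoc] using this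
  have hWinv : ∀ {w : G}, w ∈ W → w⁻¹ ∈ W := fun {w} hw =>
    hWcent hw (Subgroup.inv_mem _ (mem_cent.2 rfl)) (inv_ne_one.2 (hWmem.1 hw).1.1)
  -- two classes, with centralizers of order `q`
  have hclasses : ∀ {w : G}, w ∈ W → Nat.card (C(w) : Subgroup G) = q ∧
      ∀ x ∈ W, orderOf x = orderOf w := by
    intro w hw
    set cw := Nat.card (C(w) : Subgroup G) with hcw
    obtain ⟨d, hd⟩ := hqprime hw
    have hclass : ∀ u : G, u ∈ W → Nat.card (C(u) : Subgroup G) = cw →
        (Finset.univ.filter (fun x => IsConj u x)).card = 2 * (r + 1) * r * d ∧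
        Finset.univ.filter (fun x => IsConj u x) ⊆ W := by
      intro u hu hcu
      refine ⟨?_, fun x hx => ?_⟩
      · rw [← Fintype.card_subtype, ← Nat.card_eq_fintype_card]
        refine Nat.eq_of_mul_eq_mul_right (show 0 < cw from Nat.card_pos) ?_
        rw [← hcu, Invol.card_isConj_eq_index, Subgroup.index_mul_card, hg, hcu, hd]
        ring
      · obtain ⟨g, rfl⟩ := isConj_iff.1 (Finset.mem_filter.1 hx).2
        exact hWconj hu g
    have hC : (C(w⁻¹) : Subgroup G) = C(w) := by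
      ext x
      rw [mem_cent, mem_cent]
      exact Commute.inv_right_iff
    obtain ⟨hc1, hs1⟩ := hclass w hw rfl
    obtain ⟨hc2, hs2⟩ := hclass w⁻¹ (hWinv hw) (by rw [hC])
    have hdisj : Disjoint (Finset.univ.filter fun x => IsConj w x)
        (Finset.univ.filter fun x => IsConj w⁻¹ x) := by
      rw [Finset.disjoint_left]
      intro x hx hx'
      exact hnreal hw ((Finset.mem_filter.1 hx).2.trans (Finset.mem_filter.1 hx').2.symm)
    have hle := Finset.card_le_card (Finset.union_subset hs1 hs2)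
    rw [Finset.card_union_of_disjoint hdisj, hc1, hc2, hWcard] at hle
    have hdpos : 0 < d := Nat.pos_of_ne_zero fun e => by rw [e, mul_zero] at hd; omega
    have hd1 : d = 1 := by
      by_contra hne
      have h2 : 2 * (r + 1) * r * 2 ≤ 2 * (r + 1) * r * d := Nat.mul_le_mul_left _ (by omega)
      have : 0 < (r + 1) * r := by positivity
      linarith
    refine ⟨by rw [hd1, mul_one] at hd; exact hd.symm, fun x hx => ?_⟩
    have heq := Finset.eq_of_subset_of_card_le (Finset.union_subset hs1 hs2) (by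
      rw [Finset.card_union_of_disjoint hdisj, hc1, hc2, hWcard, hd1]; linarith)
    rw [← heq, Finset.mem_union, Finset.mem_filter, Finset.mem_filter] at hx
    rcases hx with ⟨-, e⟩ | ⟨-, e⟩ <;> obtain ⟨g, rfl⟩ := isConj_iff.1 e
    · exact Invol.orderOf_conj g w
    · rw [Invol.orderOf_conj, orderOf_inv]
  -- the prime
  obtain ⟨w₀, hw₀⟩ : W.Nonempty := Finset.card_pos.1 (by rw [hWcard]; positivity)
  have hpprimes : ∀ {p : ℕ}, p.Prime → p ∣ q → orderOf w₀ = p := by
    intro p hp hpq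
    haveI := Fact.mk hp
    obtain ⟨x, hx⟩ := exists_prime_orderOf_dvd_card' (G := (C(w₀) : Subgroup G)) p
      (by rw [(hclasses hw₀).1]; exact hpq)
    have hx' : orderOf (x : G) = p := by rw [Subgroup.orderOf_coe, hx]
    have hx1 : (x : G) ≠ 1 := fun e => by rw [e, orderOf_one] at hx'; exact hp.ne_one hx'.symm
    rw [← (hclasses hw₀).2 x (hWcent hw₀ x.2 hx1), hx']
  set p := orderOf w₀ with hp_def
  have hp : p.Prime := by
    obtain ⟨p', hp', hdv⟩ := Nat.exists_prime_and_dvd (show q ≠ 1 by omega)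
    exact (hpprimes hp' hdv) ▸ hp'
  haveI := Fact.mk hp
  have hWord : ∀ {x : G}, x ∈ W → orderOf x = p := fun hx => (hclasses hw₀).2 _ hx
  have hqpow : q = p ^ q.primeFactorsList.length :=
    Nat.eq_prime_pow_of_unique_prime_dvd (by omega) fun hd hdq => (hpprimes hd hdq).symm
  have hpq : p ∣ q := by
    rw [hqpow]
    refine dvd_pow_self p fun e => ?_
    rw [e, pow_zero] at hqpow
    omega
  have hpr : Nat.Coprime p r := by
    refine (Nat.Prime.coprime_iff_not_dvd hp).2 fun hd => ?_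
    have h1 : p ∣ 1 := (Nat.dvd_add_right (dvd_mul_of_dvd_right hd 2)).1 hpq
    exact hp.ne_one (Nat.dvd_one.1 h1)
  have hpk : Nat.Coprime p (r + 1) := by
    refine (Nat.Prime.coprime_iff_not_dvd hp).2 fun hd => ?_
    have h1 : p ∣ 2 * (r + 1) := dvd_mul_of_dvd_right hd 2
    rw [show 2 * (r + 1) = q + 1 by omega] at h1
    exact hp.ne_one (Nat.dvd_one.1 ((Nat.dvd_add_right hpq).1 h1))
  have hsyl : ∀ P : Sylow p G, Nat.card (P : Subgroup G) = q := by
    intro P
    rw [P.card_eq_multiplicity, hg, hqpow]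
    congr 1
    rw [show 2 * (r + 1) * (p ^ q.primeFactorsList.length * r) =
      p ^ q.primeFactorsList.length * (2 * (r + 1) * r) by ring,
      Nat.factorization_mul (pow_ne_zero _ hp.ne_zero) (by positivity), Finsupp.add_apply,
      Nat.Prime.factorization_pow hp, Finsupp.single_eq_same,
      Nat.factorization_eq_zero_of_not_dvd, add_zero]
    intro hd
    rcases hp.dvd_mul.1 hd with hd | hd
    · rcases hp.dvd_mul.1 hd with hd | hd
      · have : p = 2 := (Nat.prime_dvd_prime_iff_eq hp Nat.prime_two).1 hd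
        rw [this] at hpq; omega
      · exact hp.ne_one (Nat.eq_one_of_dvd_coprimes hpk dvd_rfl hd)
    · exact hp.ne_one (Nat.eq_one_of_dvd_coprimes hpr dvd_rfl hd)
  -- the elements are tori or of order `p`
  have hTA : Torus A := by
    refine ⟨fun x hx hx2 => hcentA x hx fun e => hx2 (by rw [e, one_pow]),
      fun g x hx hx2 hgx => ?_⟩
    have hgN := h.ti hzout hzp hx (fun e => hx2 (by rw [e, one_pow])) hgx
    have hidx : (A.subgroupOf N).index = 2 := by
      refine Nat.eq_of_mul_eq_mul_left (show 0 < a by omega) ?_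
      rw [show a * (A.subgroupOf N).index = Nat.card N by
        rw [← Subgroup.card_mul_index (A.subgroupOf N), hadef,
          Nat.card_congr (Subgroup.subgroupOfEquivOfLe Subgroup.le_normalizer).toEquiv],
        hNcard, hm', hm'1]
    have := Subgroup.sq_mem_of_index_two hidx ⟨g, hgN⟩
    rw [pow_two] at this
    exact this
  have hsplit : ∀ x : G, x ≠ 1 → x ^ 2 ≠ 1 → orderOf x = p ∨
      (Torus (C(x) : Subgroup G) ∧ Nat.Coprime p (Nat.card (C(x) : Subgroup G))) := by
    intro x hx hx2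
    rcases h.outside_or x with e | ⟨-, g, hgx⟩ | ho
    · exact absurd e hx
    · right
      refine ⟨h.torus_K.of_conj hgx hx2, ?_⟩
      have hC : Nat.card (C(x) : Subgroup G) = Nat.card (C(g * x * g⁻¹) : Subgroup G) :=
        Nat.card_congr (((MulAut.conj g).toEquiv).subtypeEquiv fun y => by
          simp only [MulEquiv.toEquiv_eq_coe, EquivLike.coe_coe, MulAut.conj_apply, mem_cent_conj]
          simp [mul_assoc])
      rw [hC, h.cent_eq hgx (by rw [conj_pow]; simpa using hx2), ← hkdef, hr]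
      exact hpk
    · by_cases hs : x ∈ spread A
      · right
        obtain ⟨-, g, hgx⟩ := hs
        refine ⟨hTA.of_conj hgx hx2, ?_⟩
        have hC : Nat.card (C(x) : Subgroup G) = Nat.card (C(g * x * g⁻¹) : Subgroup G) :=
          Nat.card_congr (((MulAut.conj g).toEquiv).subtypeEquiv fun y => by
            simp only [MulEquiv.toEquiv_eq_coe, EquivLike.coe_coe, MulAut.conj_apply, mem_cent_conj]
            simp [mul_assoc])
        rw [hC, hcentA _ hgx (fun e => hx (conj_eq_one_iff.1 e)), ← hadef, har]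
        exact hpr
      · exact Or.inl (hWord (hWmem.2 ⟨ho, hs⟩))
  have hexp : ∀ x : G, IsPGroup p (Subgroup.zpowers x) → x ≠ 1 → x ∈ W := by
    intro x hx hx1
    obtain ⟨i, hi⟩ := hx.exists_card_eq
    rw [Nat.card_zpowers] at hi
    have key : ∀ b : ℕ, orderOf x ∣ b → Nat.Coprime p b → False := fun b hb hcb => by
      rw [hi] at hb
      exact hx1 (orderOf_eq_one_iff.1 (by
        rw [hi]; exact Nat.eq_one_of_dvd_coprimes (hcb.pow_left i) dvd_rfl hb))
    refine hWmem.2 ⟨⟨hx1, fun ⟨_, g, hg⟩ => key (r + 1) ?_ hpk⟩, fun ⟨_, g, hg⟩ => key r ?_ hpr⟩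
    · rw [← Invol.orderOf_conj g x, ← hr]
      exact Subgroup.orderOf_dvd_natCard K hg
    · rw [← Invol.orderOf_conj g x, ← har]
      exact Subgroup.orderOf_dvd_natCard A hg
  -- local subgroups have odd order
  have hoddM : ∀ D : Subgroup G, IsPGroup p D → D ≠ ⊥ →
      Odd (Nat.card (Subgroup.normalizer (D : Set G))) := by
    intro D hD hD1
    rw [← Nat.not_even_iff_odd, even_iff_two_dvd]
    intro hd
    haveI : Fact (Nat.Prime 2) := ⟨Nat.prime_two⟩
    obtain ⟨i, hi⟩ := exists_prime_orderOf_dvd_card' 2 hd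
    have hi2 : orderOf (i : G) = 2 := by rw [Subgroup.orderOf_coe, hi]
    obtain ⟨x, hx, hx1⟩ : ∃ x ∈ D, x ≠ 1 := by
      by_contra! hc
      exact hD1 ((Subgroup.eq_bot_iff_forall _).2 hc)
    have hDW : ∀ y ∈ D, y ≠ 1 → y ∈ W := fun y hy hy1 =>
      hexp y (hD.to_le (Subgroup.zpowers_le.2 hy)) hy1
    obtain ⟨b, hb⟩ := hD.exists_card_eq
    have hpodd : Odd p := hp.odd_of_ne_two fun e => by rw [e] at hpq; omega
    have hinvD := inverts_of_fpf (A := D) (u := (i : G)) (hb ▸ hpodd.pow)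
      (Invol.mul_self_eq_one hi2)
      (fun y hy => (Subgroup.mem_normalizer_iff.1 i.2 y).1 hy)
      (fun y hy e => by
        by_contra hy1
        exact h.not_commute_invol (hWmem.1 (hDW y hy hy1)).1 hi2 e) hx
    exact hnreal (hDW x hx hx1) (isConj_iff.2 ⟨i, hinvD⟩)
  have hlocal : ∀ D : Subgroup G, IsPGroup p D → D ≠ ⊥ →
      ∀ (P : Sylow p (Subgroup.normalizer (D : Set G))) (x : Subgroup.normalizer (D : Set G)),
        x ∈ (P : Subgroup (Subgroup.normalizer (D : Set G))) ↔ x = 1 ∨ orderOf (x : G) = p :=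
    fun D hD hD1 => mul_mem_pElements (hoddM D hD hD1)
      (fun x hx hx1 => hWord (hexp x hx hx1))
      (fun x hx hx1 => hsplit x hx1 (sq_ne_one_of_mem_odd (hoddM D hD hD1) hx hx1))
  -- trivial intersections
  have hSylW : ∀ (P : Sylow p G) (x : G), x ∈ (P : Subgroup G) → x ≠ 1 → x ∈ W := fun P x hx hx1 =>
    hexp x (P.isPGroup'.to_le (Subgroup.zpowers_le.2 hx)) hx1
  have hTIP : ∀ P P' : Sylow p G, P ≠ P' → (P : Subgroup G) ⊓ P' = ⊥ := by
    by_contra hcon
    push Not at hcon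
    set I := Finset.univ.filter (fun D : Subgroup G => D ≠ ⊥ ∧
      ∃ P P' : Sylow p G, P ≠ P' ∧ (P : Subgroup G) ⊓ P' = D) with hI
    obtain ⟨P₁, P₂, hne, hint⟩ := hcon
    obtain ⟨D, hDI, hmax⟩ := Finset.exists_max_image I (fun D => Nat.card D)
      ⟨_, Finset.mem_filter.2 ⟨Finset.mem_univ _, hint, P₁, P₂, hne, rfl⟩⟩
    obtain ⟨-, hD1, P, P', hPP', hPD⟩ := Finset.mem_filter.1 hDI
    have hD : IsPGroup p D := P.isPGroup'.to_le (hPD ▸ inf_le_left)
    have hlt : ∀ Q : Sylow p G, D ≤ (Q : Subgroup G) → ((Q : Subgroup G) = P → False) →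
        D < (Q : Subgroup G) := by
      intro Q hQ hQP
      refine lt_of_le_of_ne hQ fun e => hQP ?_
      refine Q.is_maximal' P.isPGroup' ?_ |>.symm
      rw [← e, ← hPD]; exact inf_le_left
    have hDP : D < (P : Subgroup G) := by
      refine lt_of_le_of_ne (hPD ▸ inf_le_left) fun e => hPP' ?_
      refine Sylow.ext (P.is_maximal' P'.isPGroup' ?_).symm
      rw [← e, ← hPD]; exact inf_le_right
    have hDP' : D < (P' : Subgroup G) :=
      hlt P' (hPD ▸ inf_le_right) fun e => hPP' (Sylow.ext e.symm)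
    obtain ⟨T₀⟩ : Nonempty (Sylow p (Subgroup.normalizer (D : Set G))) := inferInstance
    obtain ⟨P₃, hP₃⟩ := (T₀.isPGroup'.map (Subgroup.normalizer (D : Set G)).subtype).exists_le_sylow
    have hin : ∀ Q : Sylow p G, D < (Q : Subgroup G) → Q = P₃ := by
      intro Q hQ
      obtain ⟨x, hxQ, hxN, hxD⟩ := exists_normalizing_notMem Q hQ
      by_contra hne3
      have hmemT : ∀ y : G, y ∈ (Q : Subgroup G) →
          y ∈ Subgroup.normalizer (D : Set G) → y ∈ (P₃ : Subgroup G) := by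
        intro y hyQ hyN
        refine hP₃ ⟨⟨y, hyN⟩, (hlocal D hD hD1 T₀ ⟨y, hyN⟩).2 ?_, rfl⟩
        by_cases hy1 : y = 1
        · exact Or.inl (Subtype.ext hy1)
        · exact Or.inr (hWord (hSylW Q y hyQ hy1))
      have hDlt : D < (Q : Subgroup G) ⊓ P₃ := by
        refine lt_of_le_of_ne (fun y hy => Subgroup.mem_inf.2
          ⟨hQ.le hy, hmemT y (hQ.le hy) (Subgroup.le_normalizer hy)⟩) fun e => hxD ?_
        rw [e]
        exact Subgroup.mem_inf.2 ⟨hxQ, hmemT x hxQ hxN⟩
      have h2 := hmax _ (Finset.mem_filter.2 ⟨Finset.mem_univ _,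
        fun e => hD1 (le_bot_iff.1 (e ▸ hDlt.le)), Q, P₃, hne3, rfl⟩)
      exact absurd (Subgroup.eq_of_le_of_card_ge hDlt.le h2) hDlt.ne
    exact hPP' ((hin P hDP).trans (hin P' hDP').symm)
  have hPcent : ∀ (P : Sylow p G) (x : G), x ∈ (P : Subgroup G) → x ≠ 1 →
      C(x) = (P : Subgroup G) := by
    intro P x hx hx1
    have hcard := (hclasses (hSylW P x hx hx1)).1
    obtain ⟨R, hR⟩ := (show IsPGroup p (C(x) : Subgroup G) from
      IsPGroup.of_card (n := q.primeFactorsList.length) (by rw [hcard, ← hqpow])).exists_le_sylow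
    have hRC : (C(x) : Subgroup G) = R :=
      Subgroup.eq_of_le_of_card_ge hR (by rw [hsyl R, hcard])
    have hRP : R = P := by
      by_contra hne
      have h1 : x ∈ (R : Subgroup G) ⊓ P :=
        Subgroup.mem_inf.2 ⟨hR (mem_cent.2 rfl), hx⟩
      rw [hTIP R P hne, Subgroup.mem_bot] at h1
      exact hx1 h1
    rw [hRC, hRP]
  -- the normalizer of a Sylow subgroup
  obtain ⟨P⟩ : Nonempty (Sylow p G) := inferInstance
  set Q : Subgroup G := (P : Subgroup G) with hQdef
  have hQcard : Nat.card Q = q := hsyl P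
  have hQ1 : Q ≠ ⊥ := by
    rw [← Subgroup.one_lt_card_iff_ne_bot, hQcard]; omega
  set NQ := Subgroup.normalizer (Q : Set G) with hNQ
  have hQTI : ∀ g x : G, x ∈ Q → x ≠ 1 → g * x * g⁻¹ ∈ Q → g ∈ NQ := by
    intro g x hx hx1 hgx
    refine Subgroup.mem_normalizer_iff.2 fun a => ?_
    show a ∈ Q ↔ g * a * g⁻¹ ∈ Q
    conv_lhs => rw [hQdef, ← hPcent P x hx hx1]
    conv_rhs => rw [hQdef, ← hPcent P _ hgx fun e => hx1 (conj_eq_one_iff.1 e), mem_cent_conj]
    simp [mul_assoc]
  have hNQcard : Nat.card NQ = q * r := by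
    have h1 := card_spread Q NQ hQTI (fun g hg x hx => (Subgroup.mem_normalizer_iff.1 hg x).1 hx)
    have h2 : spread Q = (W : Set G) := by
      ext x
      constructor
      · rintro ⟨hx1, g, hgx⟩
        have := hWconj (hSylW P _ hgx fun e => hx1 (conj_eq_one_iff.1 e)) g⁻¹
        simpa [mul_assoc] using this
      · intro hx
        refine ⟨(hWmem.1 hx).1.1, ?_⟩
        obtain ⟨R, hR⟩ := (show IsPGroup p (Subgroup.zpowers x) from IsPGroup.of_card (n := 1)
          (by rw [Nat.card_zpowers, hWord hx, pow_one])).exists_le_sylow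
        obtain ⟨g, hg'⟩ := MulAction.exists_smul_eq G R P
        refine ⟨g, ?_⟩
        rw [hQdef, ← hg', Sylow.coe_subgroup_smul]
        exact ⟨x, hR (Subgroup.mem_zpowers x), rfl⟩
    rw [h2, Nat.card_coe_set_eq, Set.ncard_coe_finset, hWcard, hg, hQcard, hqdef,
      Nat.add_sub_cancel] at h1
    rw [hqdef]
    refine Nat.eq_of_mul_eq_mul_left (show 0 < 4 * r * (r + 1) by positivity) ?_
    linarith
  -- a torus inside the normalizer
  obtain ⟨p', hp', hp'r⟩ := Nat.exists_prime_and_dvd (show r ≠ 1 by omega)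
  haveI := Fact.mk hp'
  obtain ⟨y, hy⟩ := exists_prime_orderOf_dvd_card' (G := NQ) p'
    (by rw [hNQcard]; exact dvd_mul_of_dvd_right hp'r q)
  have hyord : orderOf (y : G) = p' := by rw [Subgroup.orderOf_coe, hy]
  have hy1 : (y : G) ≠ 1 := fun e => by rw [e, orderOf_one] at hyord; exact hp'.ne_one hyord.symm
  obtain ⟨-, g, hgy⟩ := hAprime hp' hp'r hyord
  have hp'p : p' ≠ p := fun e =>
    hp.ne_one (Nat.eq_one_of_dvd_coprimes hpr dvd_rfl (e ▸ hp'r))
  have hoddN : Odd (Nat.card NQ) := hoddM Q P.isPGroup' hQ1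
  set D : Subgroup G := C((y : G)) with hDdef
  have hDA : D = A.map (MulAut.conj g⁻¹).toMonoidHom := by
    ext x
    rw [mem_map_conj, inv_inv, ← hcentA _ hgy fun e => hy1 (conj_eq_one_iff.1 e), mem_cent_conj]
    simp [hDdef, mul_assoc]
  have hDmem : ∀ x, x ∈ D ↔ g * x * g⁻¹ ∈ A := fun x => by rw [hDA, mem_map_conj, inv_inv]
  have hDcard : Nat.card D = r := by
    rw [hDA, ← har, hadef]
    exact (Nat.card_congr
      (Subgroup.equivMapOfInjective A _ (MulAut.conj g⁻¹).injective).toEquiv).symm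
  have hDN : D ≤ NQ := by
    obtain ⟨b, hb, hbc⟩ := torus_count hoddN
      (fun x hx hx1 => hsplit x hx1 (sq_ne_one_of_mem_odd hoddN hx hx1)) y.2 hy1
      (by rw [hyord]; exact hp'p)
    obtain ⟨T₀⟩ : Nonempty (Sylow p NQ) := inferInstance
    have hT := hlocal Q P.isPGroup' hQ1 T₀
    obtain ⟨c₀, hc₀⟩ := T₀.isPGroup'.exists_card_eq
    have hsize : Nat.card {x : NQ // x = 1 ∨ orderOf (x : G) = p} = p ^ c₀ := by
      rw [← hc₀]
      exact (Nat.card_congr (Equiv.subtypeEquivRight fun x => hT x)).symm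
    have hQle : q ≤ p ^ c₀ := by
      rw [← hsize, ← hQcard]
      refine Nat.card_le_card_of_injective (fun x =>
        ⟨⟨(x : G), Subgroup.le_normalizer x.2⟩, ?_⟩) fun x₁ x₂ e =>
        Subtype.ext (congrArg (fun u => ((u.1 : NQ) : G)) e)
      by_cases hx1 : (x : G) = 1
      · exact Or.inl (Subtype.ext hx1)
      · exact Or.inr (hWord (hSylW P x x.2 hx1))
    rw [hsize] at hb
    rw [← hb, hNQcard] at hbc
    have hle' : Nat.card ((D ⊓ NQ : Subgroup G)) ≤ r := hDcard ▸ Subgroup.card_le_of_le inf_le_left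
    have hupper : p ^ c₀ ≤ q := by
      obtain ⟨R, hR⟩ := (T₀.isPGroup'.map NQ.subtype).exists_le_sylow
      rw [← hsyl R, ← hc₀]
      refine le_trans (le_of_eq ?_) (Subgroup.card_le_of_le hR)
      exact Nat.card_congr
        (Subgroup.equivMapOfInjective _ NQ.subtype NQ.subtype_injective).toEquiv
    rw [le_antisymm hupper hQle] at hbc
    have hb2 := Nat.eq_of_mul_eq_mul_left (by omega) hbc
    intro x hx
    have hinf : D ⊓ NQ = D := Subgroup.eq_of_le_of_card_ge inf_le_left (by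
      rw [hDcard]; exact le_of_eq hb2.symm)
    rw [← hinf] at hx
    exact (Subgroup.mem_inf.1 hx).2
  have hQD : Q ⊓ D = ⊥ := Subgroup.inf_eq_bot_of_coprime (by
    rw [hQcard, hDcard, hqdef, Nat.coprime_comm, Nat.add_comm, Nat.coprime_add_mul_right_right]
    exact Nat.coprime_one_right r)
  have hNeq : NQ = Q ⊔ D := by
    refine (Subgroup.eq_of_le_of_card_ge (sup_le Subgroup.le_normalizer hDN) ?_).symm
    rw [hNQcard]
    refine Nat.le_of_dvd Nat.card_pos (Nat.Coprime.mul_dvd_of_dvd_of_dvd ?_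
      (hQcard ▸ Subgroup.card_dvd_of_le le_sup_left) (hDcard ▸ Subgroup.card_dvd_of_le le_sup_right))
    rw [hqdef, Nat.coprime_comm, Nat.add_comm, Nat.coprime_add_mul_right_right]
    exact Nat.coprime_one_right r
  have hND : ∀ X : Subgroup G, X ≤ D → X ≠ ⊥ →
      Subgroup.normalizer (X : Set G) = N.map (MulAut.conj g⁻¹).toMonoidHom := by
    refine fun X => normalizer_eq (fun g₁ x hx hx1 hgx => ?_) (fun g₁ hg₁ x hx => ?_)
    · rw [mem_map_conj, inv_inv]
      refine h.ti hzout hzp ((hDmem x).1 hx) (fun e => hx1 (conj_eq_one_iff.1 e)) ?_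
      have := (hDmem _).1 hgx
      rw [show g * g₁ * g⁻¹ * (g * x * g⁻¹) * (g * g₁ * g⁻¹)⁻¹ = g * (g₁ * x * g₁⁻¹) * g⁻¹ by group]
      exact this
    · rw [mem_map_conj, inv_inv] at hg₁
      have hx' := (hDmem x).1 hx
      have key : ∀ u ∈ N, ∀ b ∈ A, u * b * u⁻¹ = b ∨ u * b * u⁻¹ = b⁻¹ := by
        intro u hu b hb
        rw [hNA, Subgroup.sup_eq_closure] at hu
        induction hu using Subgroup.closure_induction generalizing b with
        | mem u hu =>
          rcases hu with hu | hu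
          · left
            by_cases hb1 : b = 1
            · rw [hb1]; simp
            · have : u ∈ C(b) := (hcentA b hb hb1).symm ▸ hu
              exact mul_inv_eq_iff_eq_mul.2 (mem_cent.1 this)
          · obtain ⟨i, rfl⟩ := Subgroup.mem_zpowers_iff.1 hu
            rcases Int.even_or_odd i with ⟨i', rfl⟩ | ⟨i', rfl⟩
            · left
              rw [← two_mul, zpow_mul, zpow_ofNat, ← hv, pow_orderOf_eq_one, one_zpow]; simp
            · right
              rw [zpow_add, zpow_mul, zpow_ofNat, ← hv, pow_orderOf_eq_one, one_zpow, one_mul,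
                zpow_one]
              exact hinv b hb
        | one => left; simp
        | mul u₁ u₂ _ _ h₁ h₂ =>
          rw [show u₁ * u₂ * b * (u₁ * u₂)⁻¹ = u₁ * (u₂ * b * u₂⁻¹) * u₁⁻¹ by group]
          rcases h₂ b hb with e | e <;> rw [e]
          · exact h₁ b hb
          · rcases h₁ b⁻¹ (A.inv_mem hb) with e' | e'
            · exact Or.inr e'
            · exact Or.inl (by rw [e', inv_inv])
        | inv u₁ _ h₁ =>
          rcases h₁ b hb with e | e
          · left
            calc u₁⁻¹ * b * u₁⁻¹⁻¹ = u₁⁻¹ * (u₁ * b * u₁⁻¹) * u₁⁻¹⁻¹ := by rw [e]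
              _ = b := by group
          · right
            calc u₁⁻¹ * b * u₁⁻¹⁻¹ = (u₁⁻¹ * (u₁ * b * u₁⁻¹) * u₁⁻¹⁻¹)⁻¹ := by rw [e]; group
              _ = b⁻¹ := by group
      rcases key _ hg₁ _ hx' with e | e
      · left
        apply (MulAut.conj g).injective
        simp only [MulAut.conj_apply]
        rw [← e]; group
      · right
        apply (MulAut.conj g).injective
        simp only [MulAut.conj_apply]
        rw [show g * x⁻¹ * g⁻¹ = (g * x * g⁻¹)⁻¹ by group, ← e]; group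
  have hD1 : D ≠ ⊥ := by
    rw [← Subgroup.one_lt_card_iff_ne_bot, hDcard]; omega
  refine ⟨Q, D, ?_, fun x hx hx1 => hPcent P x hx hx1, ?_, ?_, hQD, hNeq,
    fun X hX hX1 => ⟨by rw [hND X hX hX1, hND D le_rfl hD1], g⁻¹ * v * g, ?_, ?_, ?_, ?_⟩⟩
  · rw [hQcard, hg, hqdef, Nat.add_sub_cancel]; ring
  · refine ⟨⟨fun a b => Subtype.ext ?_⟩⟩
    by_cases ha1 : (a : G) = 1
    · simp [ha1]
    · have h1 := (hDmem a).1 a.2
      have h2 : g * (b : G) * g⁻¹ ∈ C(g * (a : G) * g⁻¹) := by
        rw [hcentA _ h1 fun e => ha1 (conj_eq_one_iff.1 e)]; exact (hDmem b).1 b.2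
      rw [mem_cent] at h2
      apply (MulAut.conj g).injective
      simp only [MulAut.conj_apply, Subgroup.coe_mul]
      calc g * ((a : G) * b) * g⁻¹ = (g * a * g⁻¹) * (g * b * g⁻¹) := by group
        _ = (g * b * g⁻¹) * (g * a * g⁻¹) := h2.symm
        _ = g * ((b : G) * a) * g⁻¹ := by group
  · rw [hDcard, hQcard]
  · rw [show g⁻¹ * v * g = g⁻¹ * v * g⁻¹⁻¹ by group, Invol.orderOf_conj, hv]
  · rw [hDmem, show g * (g⁻¹ * v * g) * g⁻¹ = v by group]
    intro hvA
    have hodd := h.odd_cent hzout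
    have : v = 1 := eq_one_of_sq_of_odd hodd hvA (by rw [pow_two, Invol.mul_self_eq_one hv])
    exact Invol.ne_one_of_invol hv this
  · intro d hd
    calc g⁻¹ * v * g * d * (g⁻¹ * v * g)⁻¹ = g⁻¹ * (v * (g * d * g⁻¹) * v⁻¹) * g := by group
      _ = d⁻¹ := by rw [hinv _ ((hDmem d).1 hd)]; group
  · rw [hND D le_rfl hD1, hDA, show Subgroup.zpowers (g⁻¹ * v * g) =
      (Subgroup.zpowers v).map (MulAut.conj g⁻¹).toMonoidHom by simp [MonoidHom.map_zpowers],
      ← Subgroup.map_sup, ← hNA]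

end CfsgLib.InvChar.BSW
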