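import Cfsg.Agent.Lib.InvChar.BSW.Plus
import Cfsg.Agent.Lib.InvChar.ElemFour

/-!
# The case of an involution centralizer of order four
-/

set_option autoImplicit false

namespace CfsgLib.InvChar.BSW

variable {G : Type*} [Group G] [Finite G] {t s : G} {K : Subgroup G}

local notation "C(" x ")" => Subgroup.centralizer ({x} : Set _)

theorem small_case (h : Hyp t s K) (hk : Nat.card K = 2) : Conclusion G := by
  classical
  haveI := Fintype.ofFinite G
  have hK : ∀ x ∈ K, x = 1 ∨ x = t := fun x hx => h.sq_eq_one hx (by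
    have h1 : (⟨x, hx⟩ : K) ^ Nat.card K = 1 := pow_card_eq_one'
    rw [hk] at h1
    exact congrArg Subtype.val h1)
  have hexp0 : ∀ x ∈ C(t), x ^ 2 = 1 := by
    intro x hx
    by_cases hxK : x ∈ K
    · rcases hK x hxK with rfl | rfl
      · exact one_pow 2
      · rw [← h.ht, pow_orderOf_eq_one]
    · rw [← (h.refl hx hxK).1, pow_orderOf_eq_one]
  have hC : ∀ u : G, orderOf u = 2 → Nat.card (C(u) : Subgroup G) = 4 ∧
      ∀ c ∈ C(u), c ^ 2 = 1 := by
    intro u hu
    obtain ⟨c, rfl⟩ := isConj_iff.1 (h.hconj t u h.ht hu)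
    refine ⟨?_, fun x hx => ?_⟩
    · rw [ElemFour.card_cent_conj, h.card_H, hk]
    · have h1 := hexp0 _ (mem_cent_conj.1 hx)
      calc x ^ 2 = c * (c⁻¹ * x * c) ^ 2 * c⁻¹ := by rw [pow_two, pow_two]; group
        _ = 1 := by rw [h1]; group
  have hcommute : ∀ {u a b : G}, orderOf u = 2 → a ∈ C(u) → b ∈ C(u) → a * b = b * a :=
    fun hu ha hb => ElemFour.comm_of_exp_two (hC _ hu).2 ha hb
  have hnofix : ∀ {x u : G}, x ^ 2 ≠ 1 → orderOf u = 2 → u * x * u⁻¹ ≠ x := fun {x u} hx hu e =>
    hx ((hC u hu).2 x (mem_cent.2 (mul_inv_eq_iff_eq_mul.1 e).symm))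
  have hoddC : ∀ {x : G}, x ^ 2 ≠ 1 → Odd (Nat.card (C(x) : Subgroup G)) := by
    intro x hx
    rw [← Nat.not_even_iff_odd, even_iff_two_dvd]
    intro hd
    haveI : Fact (Nat.Prime 2) := ⟨Nat.prime_two⟩
    obtain ⟨w, hw⟩ := exists_prime_orderOf_dvd_card' 2 hd
    exact hnofix hx (by rwa [← Subgroup.orderOf_coe] at hw)
      (mul_inv_eq_iff_eq_mul.2 (mem_cent.1 w.2))
  have hinvert : ∀ {Q : Subgroup G} {u : G}, Odd (Nat.card Q) → orderOf u = 2 →
      (∀ a ∈ Q, u * a * u⁻¹ ∈ Q) → ∀ a ∈ Q, u * a * u⁻¹ = a⁻¹ := fun {Q u} hQ hu hn a ha =>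
    inverts_of_fpf hQ (Invol.mul_self_eq_one hu) hn (fun b hb e => by
      by_contra hb1
      exact hnofix (fun e2 => hb1 (eq_one_of_sq_of_odd hQ hb e2)) hu e) ha
  by_cases hnorm : (C(t) : Subgroup G).Normal
  · -- `A₄`
    have hG : Nat.card G = 12 := by
      have hn : Nat.card {v : G // orderOf v = 2} = 3 := by
        have h1 : ∀ v : G, orderOf v = 2 → v ∈ C(t) := by
          intro v hv
          obtain ⟨c, rfl⟩ := isConj_iff.1 (h.hconj t v h.ht hv)
          exact hnorm.conj_mem t (mem_cent.2 rfl) c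
        have h2 := ElemFour.card_cent_finset t
        rw [(hC t h.ht).1] at h2
        rw [Nat.card_eq_fintype_card, Fintype.card_subtype]
        have h3 : (Finset.univ.filter fun v : G => orderOf v = 2) =
            Finset.univ.filter (fun a : G => a ∈ C(t) ∧ a ≠ 1) := by
          ext v
          simp only [Finset.mem_filter, Finset.mem_univ, true_and]
          exact ⟨fun e => ⟨h1 v e, Invol.ne_one_of_invol e⟩,
            fun e => orderOf_eq_prime (hexp0 v e.1) e.2⟩
        rw [h3]; omega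
      rw [h.card_G, hk, hn]
    haveI : Fact (Nat.Prime 3) := ⟨Nat.prime_three⟩
    obtain ⟨P⟩ : Nonempty (Sylow 3 G) := inferInstance
    set Q : Subgroup G := (P : Subgroup G) with hQdef
    have hQ : Nat.card Q = 3 := by
      rw [hQdef, P.card_eq_multiplicity, hG, show (12 : ℕ) = 3 ^ 1 * 4 by norm_num,
        Nat.factorization_mul (by norm_num) (by norm_num), Finsupp.add_apply,
        Nat.Prime.factorization_pow Nat.prime_three, Finsupp.single_eq_same,
        Nat.factorization_eq_zero_of_not_dvd (by norm_num)]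
      norm_num
    have hQodd : Odd (Nat.card Q) := by rw [hQ]; decide
    have hcent : ∀ x ∈ Q, x ≠ 1 → C(x) = Q := by
      intro x hx hx1
      have hz : Subgroup.zpowers x = Q := by
        refine Subgroup.eq_of_le_of_card_ge (Subgroup.zpowers_le.2 hx) ?_
        rw [hQ, Nat.card_zpowers]
        have h3 : orderOf x ∣ 3 := hQ ▸ Subgroup.orderOf_dvd_natCard Q hx
        rcases (Nat.dvd_prime Nat.prime_three).1 h3 with e | e
        · exact absurd (orderOf_eq_one_iff.1 e) hx1
        · omega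
      have hle : Q ≤ C(x) := by
        rw [← hz, Subgroup.zpowers_le]; exact mem_cent.2 rfl
      refine (Subgroup.eq_of_le_of_card_ge hle ?_).symm
      have hd : Nat.card (C(x) : Subgroup G) ∣ 4 * 3 := by
        rw [show 4 * 3 = Nat.card G by rw [hG]]
        exact Subgroup.card_subgroup_dvd_card _
      have ho := hoddC (fun e => hx1 (eq_one_of_sq_of_odd hQodd hx e))
      rw [hQ]
      exact Nat.le_of_dvd three_pos (Nat.Coprime.dvd_of_dvd_mul_left
        (Nat.Coprime.pow_right 2 (Nat.coprime_two_right.2 ho)) hd)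
    obtain ⟨x₀, hx₀, hx₀1⟩ : ∃ x ∈ Q, x ≠ 1 := by
      by_contra! hc
      have := (Subgroup.eq_bot_iff_forall _).2 hc
      rw [this, Subgroup.card_bot] at hQ
      omega
    have hN : Subgroup.normalizer (Q : Set G) = Q := by
      refine (Subgroup.eq_of_le_of_card_ge Subgroup.le_normalizer ?_).symm
      have hodd : Odd (Nat.card (Subgroup.normalizer (Q : Set G))) := by
        rw [← Nat.not_even_iff_odd, even_iff_two_dvd]
        intro hd
        haveI : Fact (Nat.Prime 2) := ⟨Nat.prime_two⟩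
        obtain ⟨i, hi⟩ := exists_prime_orderOf_dvd_card' 2 hd
        have hi2 : orderOf (i : G) = 2 := by rw [Subgroup.orderOf_coe, hi]
        have hiV : (i : G) ∈ C(t) := by
          obtain ⟨c, hc⟩ := isConj_iff.1 (h.hconj t i h.ht hi2)
          rw [← hc]; exact hnorm.conj_mem t (mem_cent.2 rfl) c
        have h1 : x₀ * (i : G) * x₀⁻¹ * (i : G)⁻¹ ∈ C(t) :=
          Subgroup.mul_mem _ (hnorm.conj_mem _ hiV _) (Subgroup.inv_mem _ hiV)
        have h2 : x₀ * (i : G) * x₀⁻¹ * (i : G)⁻¹ ∈ Q := by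
          rw [show x₀ * (i : G) * x₀⁻¹ * (i : G)⁻¹ = x₀ * ((i : G) * x₀⁻¹ * (i : G)⁻¹) by group]
          exact Q.mul_mem hx₀ ((Subgroup.mem_normalizer_iff.1 i.2 _).1 (Q.inv_mem hx₀))
        have h3 := eq_one_of_sq_of_odd hQodd h2 (hexp0 _ h1)
        refine hnofix (fun e => hx₀1 (eq_one_of_sq_of_odd hQodd hx₀ e)) hi2 ?_
        calc (i : G) * x₀ * (i : G)⁻¹
            = (x₀ * (i : G) * x₀⁻¹ * (i : G)⁻¹)⁻¹ * x₀ := by group
          _ = x₀ := by rw [h3, inv_one, one_mul]
      rw [hQ]
      have hd : Nat.card (Subgroup.normalizer (Q : Set G)) ∣ 4 * 3 := by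
        rw [show 4 * 3 = Nat.card G by rw [hG]]
        exact Subgroup.card_subgroup_dvd_card _
      exact Nat.le_of_dvd three_pos (Nat.Coprime.dvd_of_dvd_mul_left
        (Nat.Coprime.pow_right 2 (Nat.coprime_two_right.2 hodd)) hd)
    refine ⟨Q, ⊥, by rw [hQ, hG], hcent, inferInstance, by rw [hQ, Subgroup.card_bot],
      inf_bot_eq Q, by rw [hN, sup_bot_eq], fun X hX hX1 => absurd (le_bot_iff.1 hX) hX1⟩
  · -- `A₅`
    have hG := ElemFour.card_eq_sixty t h.ht (fun u hu => h.hconj t u h.ht hu) hC hnorm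
    haveI : Fact (Nat.Prime 5) := ⟨Nat.prime_five⟩
    obtain ⟨P⟩ : Nonempty (Sylow 5 G) := inferInstance
    set Q : Subgroup G := (P : Subgroup G) with hQdef
    have hQ : Nat.card Q = 5 := by
      rw [hQdef, P.card_eq_multiplicity, hG, show (60 : ℕ) = 5 ^ 1 * 12 by norm_num,
        Nat.factorization_mul (by norm_num) (by norm_num), Finsupp.add_apply,
        Nat.Prime.factorization_pow Nat.prime_five, Finsupp.single_eq_same,
        Nat.factorization_eq_zero_of_not_dvd (by norm_num)]
      norm_num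
    have hQodd : Odd (Nat.card Q) := by rw [hQ]; decide
    set N := Subgroup.normalizer (Q : Set G) with hNdef
    have hs : s ∈ C(t) := h.s_mem
    have hN : Nat.card N = 10 := by
      have h1 : Nat.card (Sylow 5 G) = N.index := P.card_eq_index_normalizer
      have h2 : Nat.card (Sylow 5 G) % 5 = 1 := card_sylow_modEq_one 5 G
      have h3 := Subgroup.card_mul_index N
      rw [← h1, hG] at h3
      set n5 := Nat.card (Sylow 5 G)
      have h4 : 5 ∣ Nat.card N := hQ ▸ Subgroup.card_dvd_of_le Subgroup.le_normalizer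
      obtain ⟨b, hb⟩ := h4
      rw [hb, mul_assoc] at h3
      have h12 : b * n5 = 12 := by omega
      have hb12 : n5 ≤ 12 := Nat.le_of_dvd (by norm_num) ⟨b, by rw [← h12, mul_comm]⟩
      have hn1 : n5 ≠ 1 := by
        intro e
        rw [e, mul_one] at h12
        have hNtop : N = ⊤ := Subgroup.eq_top_of_card_eq _ (by rw [hb, hG, h12])
        have hnm : ∀ g : G, ∀ a ∈ Q, g * a * g⁻¹ ∈ Q := fun g a ha =>
          (Subgroup.mem_normalizer_iff.1 (show g ∈ N by rw [hNtop]; trivial) a).1 ha
        have hts : orderOf (t * s) = 2 := by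
          refine orderOf_eq_prime (hexp0 _ (Subgroup.mul_mem _ (mem_cent.2 rfl) hs)) fun e' => ?_
          exact h.sK (by
            rw [eq_inv_of_mul_eq_one_right e']
            exact K.inv_mem h.tK)
        obtain ⟨x, hx, hx1⟩ : ∃ x ∈ Q, x ≠ 1 := by
          by_contra! hc
          have := (Subgroup.eq_bot_iff_forall _).2 hc
          rw [this, Subgroup.card_bot] at hQ
          omega
        have i1 := hinvert hQodd h.ht (hnm t) x hx
        have i2 := hinvert hQodd h.hs (hnm s) _ (Q.inv_mem hx)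
        have i3 := hinvert hQodd hts (hnm _) x hx
        refine hnofix (u := t * s) (fun e' => hx1 (eq_one_of_sq_of_odd hQodd hx e')) hts ?_
        have j1 := hinvert hQodd h.hs (hnm s) x hx
        rw [show t * s * x * (t * s)⁻¹ = t * (s * x * s⁻¹) * t⁻¹ by group, j1,
          show t * x⁻¹ * t⁻¹ = (t * x * t⁻¹)⁻¹ by group, i1, inv_inv]
      have hn6 : n5 = 6 := by
        interval_cases n5 <;> omega
      rw [hn6] at h12
      omega
    have hcent : ∀ x ∈ Q, x ≠ 1 → C(x) = Q := by
      intro x hx hx1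
      have hz : Subgroup.zpowers x = Q := by
        refine Subgroup.eq_of_le_of_card_ge (Subgroup.zpowers_le.2 hx) ?_
        rw [hQ, Nat.card_zpowers]
        have h3 : orderOf x ∣ 5 := hQ ▸ Subgroup.orderOf_dvd_natCard Q hx
        rcases (Nat.dvd_prime Nat.prime_five).1 h3 with e | e
        · exact absurd (orderOf_eq_one_iff.1 e) hx1
        · omega
      have hle : Q ≤ C(x) := by
        rw [← hz, Subgroup.zpowers_le]; exact mem_cent.2 rfl
      have hCN : C(x) ≤ N := by
        intro g hg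
        refine Subgroup.mem_normalizer_iff.2 fun a => ?_
        show a ∈ Q ↔ g * a * g⁻¹ ∈ Q
        rw [← hz]
        constructor
        · intro ha
          obtain ⟨i, rfl⟩ := Subgroup.mem_zpowers_iff.1 ha
          rw [← conj_zpow, show g * x * g⁻¹ = x from mul_inv_eq_iff_eq_mul.2 (mem_cent.1 hg)]
          exact Subgroup.zpow_mem_zpowers x i
        · intro ha
          obtain ⟨i, hi⟩ := Subgroup.mem_zpowers_iff.1 ha
          have : a = g⁻¹ * x ^ i * g := by rw [hi]; group
          rw [this, show g⁻¹ * x ^ i * g = g⁻¹ * x ^ i * g⁻¹⁻¹ by rw [inv_inv], ← conj_zpow,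
            show g⁻¹ * x * g⁻¹⁻¹ = x from mul_inv_eq_iff_eq_mul.2
              (mem_cent.1 (Subgroup.inv_mem _ hg))]
          exact Subgroup.zpow_mem_zpowers x i
      refine (Subgroup.eq_of_le_of_card_ge hle ?_).symm
      have hd : Nat.card (C(x) : Subgroup G) ∣ 2 * 5 := by
        rw [show 2 * 5 = Nat.card N by rw [hN]]; exact Subgroup.card_dvd_of_le hCN
      have ho := hoddC (fun e => hx1 (eq_one_of_sq_of_odd hQodd hx e))
      rw [hQ]
      exact Nat.le_of_dvd (by norm_num) (Nat.Coprime.dvd_of_dvd_mul_left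
        (Nat.coprime_two_right.2 ho) hd)
    haveI : Fact (Nat.Prime 2) := ⟨Nat.prime_two⟩
    obtain ⟨i, hi⟩ := exists_prime_orderOf_dvd_card' (G := N) 2 (by rw [hN]; norm_num)
    set v : G := (i : G) with hvdef
    have hv : orderOf v = 2 := by rw [hvdef, Subgroup.orderOf_coe, hi]
    set D := Subgroup.zpowers v with hDdef
    have hD : Nat.card D = 2 := by rw [hDdef, Nat.card_zpowers, hv]
    have hQD : Q ⊓ D = ⊥ := Subgroup.inf_eq_bot_of_coprime (by rw [hQ, hD]; norm_num)
    have hmemD : ∀ d ∈ D, d = 1 ∨ d = v := by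
      intro d hd
      obtain ⟨j, rfl⟩ := Subgroup.mem_zpowers_iff.1 hd
      rcases Int.even_or_odd j with ⟨l, rfl⟩ | ⟨l, rfl⟩
      · left; rw [← two_mul, zpow_mul, zpow_ofNat, ← hv, pow_orderOf_eq_one, one_zpow]
      · right
        rw [zpow_add, zpow_mul, zpow_ofNat, ← hv, pow_orderOf_eq_one, one_zpow, one_mul, zpow_one]
    have hND : Subgroup.normalizer (D : Set G) = C(v) := by
      ext g
      constructor
      · intro hg
        rcases hmemD _ ((Subgroup.mem_normalizer_iff.1 hg v).1 (Subgroup.mem_zpowers v)) with e | e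
        · exact absurd (conj_eq_one_iff.1 e) (Invol.ne_one_of_invol hv)
        · exact mem_cent.2 (mul_inv_eq_iff_eq_mul.1 e)
      · intro hg
        have key : ∀ g ∈ (C(v) : Subgroup G), ∀ d ∈ D, g * d * g⁻¹ = d := by
          intro g hg d hd
          rcases hmemD d hd with rfl | rfl
          · simp
          · exact mul_inv_eq_iff_eq_mul.2 (mem_cent.1 hg)
        refine Subgroup.mem_normalizer_iff.2 fun a => ⟨fun ha => ?_, fun ha => ?_⟩
        · rw [key g hg a ha]; exact ha
        · have h1 := key _ (Subgroup.inv_mem _ hg) _ ha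
          have e : a = g * a * g⁻¹ := by
            calc a = g⁻¹ * (g * a * g⁻¹) * g⁻¹⁻¹ := by group
              _ = g * a * g⁻¹ := h1
          rw [e]; exact ha
    have hX : ∀ X : Subgroup G, X ≤ D → X ≠ ⊥ → X = D := by
      intro X hXD hX1
      refine Subgroup.eq_of_le_of_card_ge hXD ?_
      have := (Subgroup.one_lt_card_iff_ne_bot X).2 hX1
      omega
    obtain ⟨u, hu, huD⟩ : ∃ u ∈ C(v), u ∉ D := by
      by_contra! hc
      have h1 := Subgroup.card_le_of_le (show (C(v) : Subgroup G) ≤ D from hc)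
      rw [(hC v hv).1, hD] at h1
      omega
    have hu2 : orderOf u = 2 := orderOf_eq_prime ((hC v hv).2 u hu) fun e => huD (e ▸ D.one_mem)
    refine ⟨Q, D, by rw [hQ, hG], hcent, inferInstance, by rw [hD, hQ], hQD, ?_,
      fun X hXD hX1 => ⟨by rw [hX X hXD hX1], u, hu2, huD, fun d hd => ?_, ?_⟩⟩
    · refine (Subgroup.eq_of_le_of_card_ge (sup_le Subgroup.le_normalizer ?_) ?_).symm
      · rw [hDdef, Subgroup.zpowers_le]; exact i.2
      · rw [show Subgroup.normalizer (Q : Set G) = N from rfl, hN]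
        refine Nat.le_of_dvd Nat.card_pos ?_
        rw [show (10 : ℕ) = 5 * 2 by norm_num]
        exact Nat.Coprime.mul_dvd_of_dvd_of_dvd (by norm_num)
          (hQ ▸ Subgroup.card_dvd_of_le le_sup_left) (hD ▸ Subgroup.card_dvd_of_le le_sup_right)
    · have hdC : d ∈ C(v) := by
        rcases hmemD d hd with rfl | rfl
        · exact Subgroup.one_mem _
        · exact mem_cent.2 rfl
      rw [hcommute hv hu hdC, mul_inv_cancel_right]
      exact (inv_eq_of_mul_eq_one_right (by rw [← pow_two]; exact (hC v hv).2 d hdC)).symm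
    · rw [hND]
      refine (Subgroup.eq_of_le_of_card_ge (sup_le ?_ (Subgroup.zpowers_le.2 hu)) ?_).symm
      · rw [hDdef, Subgroup.zpowers_le]; exact mem_cent.2 rfl
      · have hd : Nat.card (D ⊔ Subgroup.zpowers u : Subgroup G) ∣ 4 :=
          (hC v hv).1 ▸ Subgroup.card_dvd_of_le (sup_le
            (by rw [hDdef, Subgroup.zpowers_le]; exact mem_cent.2 rfl) (Subgroup.zpowers_le.2 hu))
        have hne : Nat.card (D ⊔ Subgroup.zpowers u : Subgroup G) ≠ 2 := fun e => by
          have h1 : D = D ⊔ Subgroup.zpowers u :=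
            Subgroup.eq_of_le_of_card_ge le_sup_left (by rw [e, hD])
          exact huD (h1 ▸ Subgroup.mem_sup_right (Subgroup.mem_zpowers u))
        have h2 : 2 ∣ Nat.card (D ⊔ Subgroup.zpowers u : Subgroup G) :=
          hD ▸ Subgroup.card_dvd_of_le le_sup_left
        rw [(hC v hv).1]
        obtain ⟨i', hi', he⟩ := (Nat.dvd_prime_pow Nat.prime_two).1
          (show Nat.card (D ⊔ Subgroup.zpowers u : Subgroup G) ∣ 2 ^ 2 from hd)
        rw [he] at hne h2 ⊢
        interval_cases i' <;> first | omega | norm_num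

end CfsgLib.InvChar.BSW
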