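import Cfsg.Agent.Lib.Char.Complete
import Cfsg.Agent.Lib.Char.Linear
import Cfsg.Agent.Lib.Char.Twist
import Mathlib.Algebra.BigOperators.Group.Finset.Piecewise

/-!
# Characters of an abelian group with a single involution
-/

set_option autoImplicit false

open scoped ComplexConjugate

namespace CfsgLib.InvChar.BSW.AbChar

universe u

variable {K : Type u} [Group K] [Finite K] (hK : ∀ a b : K, a * b = b * a)

/-- The complex conjugate of an irreducible character. -/
noncomputable def cj (l : Cfsg.IrrCharacter K) : Cfsg.IrrCharacter K :=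
  ⟨fun g => conj ((l : K → ℂ) g), CharTwist.isIrrCharacter_conj l.2⟩

theorem cj_apply (l : Cfsg.IrrCharacter K) (g : K) :
    (cj l : K → ℂ) g = conj ((l : K → ℂ) g) := rfl

theorem cj_cj (l : Cfsg.IrrCharacter K) : cj (cj l) = l :=
  Subtype.ext (funext fun g => by simp [cj_apply])

theorem cj_principal : cj (Char.principalIrr : Cfsg.IrrCharacter K) = Char.principalIrr :=
  Subtype.ext (funext fun g => by simp [cj_apply])

theorem cj_ne_principal {l : Cfsg.IrrCharacter K} (h : l ≠ Char.principalIrr) :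
    cj l ≠ Char.principalIrr := fun e => h (by rw [← cj_cj l, e, cj_principal])

include hK

theorem exists_hom (l : Cfsg.IrrCharacter K) :
    ∃ f : K →* ℂˣ, ∀ b, (l : K → ℂ) b = (f b : ℂ) := by
  obtain ⟨n, ρ, hρ, hρl⟩ := l.2
  have : IsMulCommutative K := ⟨⟨hK⟩⟩
  refine Char.IsCharacter.exists_linear ⟨n, ρ, hρl⟩ ?_
  rw [← hρl, Representation.char_one,
    Representation.IsIrreducible.finrank_eq_one_of_isMulCommutative ρ, Nat.cast_one]

theorem apply_one (l : Cfsg.IrrCharacter K) : (l : K → ℂ) 1 = 1 := by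
  obtain ⟨f, hf⟩ := exists_hom hK l
  simp [hf]

theorem apply_mul (l : Cfsg.IrrCharacter K) (a b : K) :
    (l : K → ℂ) (a * b) = (l : K → ℂ) a * (l : K → ℂ) b := by
  obtain ⟨f, hf⟩ := exists_hom hK l
  simp [hf]

theorem apply_inv (l : Cfsg.IrrCharacter K) (a : K) : (l : K → ℂ) a⁻¹ = conj ((l : K → ℂ) a) :=
  Char.IsIrrCharacter.apply_inv l.2 a

theorem mul_conj_self (l : Cfsg.IrrCharacter K) (a : K) :
    (l : K → ℂ) a * conj ((l : K → ℂ) a) = 1 := by
  rw [← apply_inv hK, ← apply_mul hK, mul_inv_cancel, apply_one hK]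

theorem sum_mul_conj (a b : K) [Decidable (a = b)] :
    ∑ l : Cfsg.IrrCharacter K, (l : K → ℂ) a * conj ((l : K → ℂ) b) =
      if a = b then (Nat.card K : ℂ) else 0 := by
  classical
  rw [Char.sum_mul_conj a b]
  have hiff : IsConj a b ↔ a = b := by
    refine ⟨fun e => ?_, fun e => e ▸ IsConj.refl a⟩
    obtain ⟨c, hc⟩ := isConj_iff.1 e
    rw [← hc, hK c a, mul_inv_cancel_right]
  by_cases e : a = b
  · rw [if_pos (hiff.2 e), if_pos e]
    have : Subgroup.centralizer ({a} : Set K) = ⊤ := by
      ext c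
      simpa [Subgroup.mem_centralizer_singleton_iff] using hK c a
    rw [this, Subgroup.card_top]
  · rw [if_neg (mt hiff.1 e), if_neg e]

theorem sum_apply {a : K} (ha : a ≠ 1) :
    ∑ l : Cfsg.IrrCharacter K, (l : K → ℂ) a = 0 := by
  classical
  have h := sum_mul_conj hK a 1
  rw [if_neg ha] at h
  simpa [apply_one hK] using h

theorem card_irr : (Fintype.card (Cfsg.IrrCharacter K) : ℂ) = Nat.card K := by
  classical
  have h := sum_mul_conj hK (1 : K) 1
  rw [if_pos rfl] at h
  simpa [apply_one hK] using h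

/-- With a single involution there is exactly one real nonprincipal character. -/
theorem exists_sign (t : K) (ht : t ≠ 1) (hsq : ∀ x : K, x ^ 2 = 1 ↔ x = 1 ∨ x = t) :
    ∃ η : Cfsg.IrrCharacter K, η ≠ Char.principalIrr ∧ cj η = η ∧
      (∀ l : Cfsg.IrrCharacter K, cj l = l → l ≠ Char.principalIrr → l = η) ∧
      (∀ x : K, (η : K → ℂ) x = 1 ∨ (η : K → ℂ) x = -1) ∧
      (∀ x : K, (η : K → ℂ) (x * x) = 1) ∧ ∃ y : K, (η : K → ℂ) y = -1 := by
  classical
  let sq : K →* K :=
    { toFun := fun x => x * x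
      map_one' := one_mul 1
      map_mul' := fun a b => by
        rw [mul_assoc, ← mul_assoc b a b, hK b a, mul_assoc a b b, ← mul_assoc] }
  have hker : Nat.card sq.ker = 2 := by
    have : (sq.ker : Set K) = {1, t} := by
      ext x
      simp only [SetLike.mem_coe, MonoidHom.mem_ker, Set.mem_insert_iff, Set.mem_singleton_iff]
      rw [← hsq, pow_two]
      rfl
    rw [← SetLike.coe_sort_coe, this, Nat.card_coe_set_eq, Set.ncard_pair ht.symm]
  have hidx : sq.range.index = 2 := by
    refine Nat.eq_of_mul_eq_mul_left (n := Nat.card sq.range) Nat.card_pos ?_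
    rw [Subgroup.card_mul_index, ← Subgroup.card_mul_index sq.ker, hker, Subgroup.index_ker,
      mul_comm]
  let f : K →* ℂˣ :=
    { toFun := fun x => if x ∈ sq.range then 1 else -1
      map_one' := if_pos sq.range.one_mem
      map_mul' := fun a b => by
        have := Subgroup.mul_mem_iff_of_index_two hidx (a := a) (b := b)
        by_cases ha : a ∈ sq.range <;> by_cases hb : b ∈ sq.range <;> simp [this, ha, hb] }
  have hf : ∀ x : K, (f x : ℂ) = if x ∈ sq.range then 1 else -1 := fun x => by
    show (((if x ∈ sq.range then 1 else -1 : ℂˣ)) : ℂ) = _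
    split <;> simp
  obtain ⟨y, hy⟩ : ∃ y : K, y ∉ sq.range := by
    by_contra! h
    rw [(Subgroup.eq_top_iff' _).2 h, Subgroup.index_top] at hidx
    simp at hidx
  let η : Cfsg.IrrCharacter K := ⟨_, Char.isIrrCharacter_linear f⟩
  have hηy : (η : K → ℂ) y = -1 := by show (f y : ℂ) = -1; rw [hf, if_neg hy]
  have hne : η ≠ Char.principalIrr := by
    intro e
    rw [e] at hηy
    norm_num at hηy
  refine ⟨η, hne, ?_, ?_, ?_, ?_, y, hηy⟩
  · refine Subtype.ext (funext fun x => ?_)
    show conj (f x : ℂ) = (f x : ℂ)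
    rw [hf]; split <;> simp
  · intro l hl hl1
    have hsq1 : ∀ x, (l : K → ℂ) x * (l : K → ℂ) x = 1 := fun x => by
      have h := mul_conj_self hK l x
      rwa [← cj_apply, hl] at h
    have hrange : ∀ x ∈ sq.range, (l : K → ℂ) x = 1 := by
      rintro _ ⟨x, rfl⟩
      show (l : K → ℂ) (x * x) = 1
      rw [apply_mul hK, hsq1]
    have hout : ∀ x, x ∉ sq.range → (l : K → ℂ) x = (l : K → ℂ) y := by
      intro x hx
      have hm : x * y⁻¹ ∈ sq.range := by
        rw [Subgroup.mul_mem_iff_of_index_two hidx, inv_mem_iff]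
        exact iff_of_false hx hy
      rw [show x = x * y⁻¹ * y by group, apply_mul hK, hrange _ hm, one_mul]
    have hly : (l : K → ℂ) y = -1 := by
      refine (mul_self_eq_one_iff.1 (hsq1 y)).resolve_left fun e => hl1 ?_
      refine Subtype.ext (funext fun x => ?_)
      simp only [Char.principalIrr_apply]
      by_cases hx : x ∈ sq.range
      · exact hrange x hx
      · rw [hout x hx, e]
    refine Subtype.ext (funext fun x => ?_)
    show _ = (f x : ℂ)
    rw [hf]
    split
    · exact hrange x ‹_›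
    · rw [hout x ‹_›, hly]
  · intro x
    show (f x : ℂ) = 1 ∨ (f x : ℂ) = -1
    rw [hf]; split <;> simp
  · intro x
    show (f (x * x) : ℂ) = 1
    rw [hf, if_pos ⟨x, rfl⟩]

end CfsgLib.InvChar.BSW.AbChar
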