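import Cfsg.Agent.Lib.InvChar.BSW.Supp

/-!
# Coherence: all the induced generalized characters share one constituent
-/

set_option autoImplicit false

open scoped ComplexConjugate Classical

namespace CfsgLib.InvChar.BSW

universe u

variable {G : Type u} [Group G] [Fintype G] {t s : G} {K : Subgroup G} [Fintype ↥K]
  (h : Hyp t s K)
include h

theorem pair_supp {l : Cfsg.IrrCharacter ↥K} (hl : l ≠ Char.principalIrr)
    (hlg : AbChar.cj l ≠ l) {a b : Cfsg.IrrCharacter G} (ha : a ∈ supp K l) (hb : b ∈ supp K l)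
    (hab : a ≠ b) : supp K l = {a, b} := by
  refine (Finset.eq_of_subset_of_card_le ?_ ?_).symm
  · intro ξ hξ
    rcases Finset.mem_insert.1 hξ with rfl | hξ
    · exact ha
    · rw [Finset.mem_singleton.1 hξ]; exact hb
  · rw [(supp_card h hl).2.1 hlg, Finset.card_pair hab]

/-- The exceptional configuration with `|K| = 6` does not occur. -/
theorem no_six {η l₀ l₁ : Cfsg.IrrCharacter ↥K} {ξ₀ X₀ X₁ : Cfsg.IrrCharacter G}
    (hη : η ≠ Char.principalIrr) (hη' : AbChar.cj η = η)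
    (huniq : ∀ l : Cfsg.IrrCharacter ↥K, AbChar.cj l = l → l ≠ Char.principalIrr → l = η)
    (hpm : ∀ x : ↥K, (η : ↥K → ℂ) x = 1 ∨ (η : ↥K → ℂ) x = -1)
    (hsq : ∀ x : ↥K, (η : ↥K → ℂ) (x * x) = 1) (hneg : ∃ y : ↥K, (η : ↥K → ℂ) y = -1)
    (hl₀ : l₀ ≠ Char.principalIrr) (hg₀ : AbChar.cj l₀ ≠ l₀)
    (hl₁ : l₁ ≠ Char.principalIrr) (hg₁ : AbChar.cj l₁ ≠ l₁)
    (h01 : l₁ ≠ l₀) (h01' : l₁ ≠ AbChar.cj l₀)
    (hgen : ∀ l, AbChar.cj l ≠ l → l = l₀ ∨ l = AbChar.cj l₀ ∨ l = l₁ ∨ l = AbChar.cj l₁)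
    (hs₀ : supp K l₀ = {ξ₀, X₀}) (hs₁ : supp K l₁ = {ξ₀, X₁}) (hX : X₀ ≠ X₁)
    (hξ₀ : ξ₀ ≠ X₀) (hξ₁ : ξ₀ ≠ X₁) (hξη : ξ₀ ∉ supp K η)
    (he : coef K l₀ ξ₀ = coef K l₁ ξ₀)
    (hX₀η : coef K η X₀ = coef K l₀ X₀) (hX₁η : coef K η X₁ = coef K l₁ X₁)
    (hdeg : coef K l₀ X₀ * (Char.degree (X₀ : G → ℂ) : ℤ) =
      coef K l₁ X₁ * (Char.degree (X₁ : G → ℂ) : ℤ)) : False := by
  haveI : Fact (Nat.Prime 3) := ⟨Nat.prime_three⟩
  set F := Finset.univ.filter (fun l : Cfsg.IrrCharacter ↥K => AbChar.cj l ≠ l) with hF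
  have hF' : F = {l₀, AbChar.cj l₀, l₁, AbChar.cj l₁} := by
    ext l
    simp only [hF, Finset.mem_filter, Finset.mem_univ, true_and, Finset.mem_insert,
      Finset.mem_singleton]
    refine ⟨hgen l, ?_⟩
    rintro (rfl | rfl | rfl | rfl)
    · exact hg₀
    · rw [AbChar.cj_cj]; exact hg₀.symm
    · exact hg₁
    · rw [AbChar.cj_cj]; exact hg₁.symm
  have h10 : AbChar.cj l₁ ≠ l₀ := fun e => h01' (by rw [← e, AbChar.cj_cj])
  have h10' : AbChar.cj l₁ ≠ AbChar.cj l₀ := fun e => h01 (by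
    rw [← AbChar.cj_cj l₁, e, AbChar.cj_cj])
  have hsum : ∀ f : Cfsg.IrrCharacter ↥K → ℂ,
      ∑ l, f l = f Char.principalIrr + f η + (f l₀ + (f (AbChar.cj l₀) + (f l₁ + f (AbChar.cj l₁)))) := by
    intro f
    rw [sum_generic h hη hη' huniq f, ← hF, hF', Finset.sum_insert, Finset.sum_insert,
      Finset.sum_pair hg₁.symm]
    · simp [h01'.symm, h10'.symm]
    · simp [hg₀.symm, h01.symm, h10.symm]
  -- values on `K`
  have hval : ∀ (ξ : Cfsg.IrrCharacter G) (y : ↥K), y ≠ 1 → (ξ : G → ℂ) y =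
      -((coef K η ξ : ℂ) * (η : ↥K → ℂ) y + ((coef K l₀ ξ : ℂ) *
        ((l₀ : ↥K → ℂ) y + conj ((l₀ : ↥K → ℂ) y)) + (coef K l₁ ξ : ℂ) *
        ((l₁ : ↥K → ℂ) y + conj ((l₁ : ↥K → ℂ) y)))) := by
    intro ξ y hy
    rw [apply_mem h ξ y hy, hsum, coef_principal_left h, coef_cj h, coef_cj h, AbChar.cj_apply,
      AbChar.cj_apply, Int.cast_zero, zero_mul]
    ring
  have hk : Nat.card ↥K = 6 := by
    rw [← card_generic h hη hη' huniq, ← hF, hF', Finset.card_insert_of_notMem,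
      Finset.card_insert_of_notMem, Finset.card_pair hg₁.symm]
    · simp [h01'.symm, h10'.symm]
    · simp [hg₀.symm, h01.symm, h10.symm]
  let T : ↥K := ⟨t, h.tK⟩
  have hT1 : T ≠ 1 := fun e => h.t_ne_one (congrArg Subtype.val e)
  have hT2 : T * T = 1 := Subtype.ext (Invol.mul_self_eq_one h.ht)
  have hKc := K_comm h
  obtain ⟨w, hw⟩ := exists_prime_orderOf_dvd_card' (G := ↥K) 3 (by rw [hk]; norm_num)
  have hw3 : w * w * w = 1 := by
    rw [mul_assoc, ← pow_two, ← pow_succ']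
    exact orderOf_dvd_iff_pow_eq_one.1 (by rw [hw])
  have hww : w ≠ 1 := fun e => by rw [e, orderOf_one] at hw; norm_num at hw
  set y : ↥K := T * w with hy
  have hcTw : Commute T w := hKc T w
  have hy3 : y * (y * y) = T := by
    rw [← pow_two, ← pow_succ', hy, hcTw.mul_pow, pow_succ, pow_two, hT2, one_mul,
      show w ^ (2 + 1) = w * w * w by rw [pow_succ, pow_two], hw3, mul_one]
  have hy2 : y * y = w * w := by
    rw [← pow_two, hy, hcTw.mul_pow, pow_two, hT2, one_mul, pow_two]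
  have hy21 : y * y ≠ 1 := by
    rw [hy2]
    intro e
    rw [e, one_mul] at hw3
    exact hww hw3
  have hy1 : y ≠ 1 := fun e => hy21 (by rw [e, one_mul])
  have hηT : (η : ↥K → ℂ) T = -1 := by
    refine (hpm T).resolve_left fun e => ?_
    -- then `η` is trivial
    obtain ⟨z, hz⟩ := hneg
    have hker : ∀ x : ↥K, (η : ↥K → ℂ) x = 1 := by
      intro x
      have hord : orderOf x ∣ 6 := hk ▸ orderOf_dvd_natCard x
      have hx6 : x ^ 6 = 1 := orderOf_dvd_iff_pow_eq_one.1 hord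
      have hx3 : x * (x * x) = 1 ∨ x * (x * x) = T := by
        have h2 : (x * (x * x)) ^ 2 = 1 := by
          rw [← pow_two x, ← pow_succ', ← pow_mul]
          exact hx6
        rcases h.sq_eq_one (x * (x * x)).2 (congrArg Subtype.val h2) with e' | e'
        · exact Or.inl (Subtype.ext e')
        · exact Or.inr (Subtype.ext e')
      have h3 : (η : ↥K → ℂ) (x * (x * x)) = (η : ↥K → ℂ) x := by
        rw [AbChar.apply_mul hKc, hsq, mul_one]
      rw [← h3]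
      rcases hx3 with e' | e' <;> rw [e']
      · exact AbChar.apply_one hKc η
      · exact e
    rw [hker] at hz
    norm_num at hz
  have hηy : (η : ↥K → ℂ) y = -1 := by
    have : (η : ↥K → ℂ) w = 1 := by
      rw [show w = (w * w) * (w * w) by rw [← mul_assoc, hw3, one_mul]]
      exact hsq _
    rw [hy, AbChar.apply_mul hKc, this, hηT, mul_one]
  have hfacts : ∀ l : Cfsg.IrrCharacter ↥K, AbChar.cj l ≠ l →
      ((l : ↥K → ℂ) T = 1 ∧ (l : ↥K → ℂ) y + conj ((l : ↥K → ℂ) y) = -1) ∨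
      ((l : ↥K → ℂ) T = -1 ∧ (l : ↥K → ℂ) y + conj ((l : ↥K → ℂ) y) = 1) := by
    intro l hl
    set ω := (l : ↥K → ℂ) y with hω
    have hω3 : ω * (ω * ω) = (l : ↥K → ℂ) T := by
      rw [hω, ← AbChar.apply_mul hKc, ← AbChar.apply_mul hKc, hy3]
    have hT' : (l : ↥K → ℂ) T * (l : ↥K → ℂ) T = 1 := by
      rw [← AbChar.apply_mul hKc, hT2, AbChar.apply_one hKc]
    have hconj : ω * conj ω = 1 := AbChar.mul_conj_self hKc l y
    -- `y` generates, so `ω` is not a sign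
    have hne : ω * ω ≠ 1 := by
      intro e
      apply hl
      refine Subtype.ext (funext fun x => ?_)
      rw [AbChar.cj_apply]
      have hgen' : x ∈ Subgroup.zpowers y := by
        have hord : orderOf y = 6 := by
          have h6 : orderOf y ∣ 6 := hk ▸ orderOf_dvd_natCard y
          have hn2 : ¬ orderOf y ∣ 2 := fun d => hy21 (by
            rw [← pow_two]; exact orderOf_dvd_iff_pow_eq_one.1 d)
          have hn3 : ¬ orderOf y ∣ 3 := fun d => hT1 (by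
            rw [← hy3, ← pow_two, ← pow_succ']; exact orderOf_dvd_iff_pow_eq_one.1 d)
          have hle := Nat.le_of_dvd (by norm_num) h6
          interval_cases hn : orderOf y <;> omega
        have : Subgroup.zpowers y = ⊤ :=
          Subgroup.eq_top_of_card_eq _ (by rw [Nat.card_zpowers, hord, hk])
        rw [this]; exact Subgroup.mem_top x
      obtain ⟨i, rfl⟩ := Subgroup.mem_zpowers_iff.1 hgen'
      obtain ⟨f, hf⟩ := AbChar.exists_hom hKc l
      have hω1 : conj ω = ω := by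
        calc conj ω = ω * ω * conj ω := by rw [e, one_mul]
          _ = ω := by rw [mul_assoc, hconj, mul_one]
      rw [hf, map_zpow, Units.val_zpow_eq_zpow_val, map_zpow₀, ← hf, ← hω, hω1]
    rcases mul_self_eq_one_iff.1 hT' with e | e
    · left
      refine ⟨e, ?_⟩
      rw [e] at hω3
      have h2 : conj ω = ω * ω := by
        calc conj ω = conj ω * (ω * (ω * ω)) := by rw [hω3, mul_one]
          _ = ω * ω := by rw [← mul_assoc, mul_comm (conj ω), hconj, one_mul]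
      have h1 : ω - 1 ≠ 0 := fun h0 => hne (by rw [sub_eq_zero.1 h0, one_mul])
      refine mul_left_cancel₀ h1 ?_
      rw [h2]
      linear_combination hω3
    · right
      refine ⟨e, ?_⟩
      rw [e] at hω3
      have h2 : conj ω = -(ω * ω) := by
        calc conj ω = -(conj ω * (ω * (ω * ω))) := by rw [hω3]; ring
          _ = -(ω * ω) := by rw [← mul_assoc, mul_comm (conj ω), hconj, one_mul]
      have h1 : ω + 1 ≠ 0 := fun h0 => hne (by rw [eq_neg_of_add_eq_zero_left h0]; ring)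
      refine mul_left_cancel₀ h1 ?_
      rw [h2]
      linear_combination -hω3
  -- the coefficients
  have hP : ∀ {l : Cfsg.IrrCharacter ↥K} {ξ : Cfsg.IrrCharacter G}, ξ ∈ supp K l →
      ξ ≠ Char.principalIrr := fun hm => (mem_supp.1 hm).1
  have hξP : ξ₀ ≠ Char.principalIrr := hP (l := l₀) (by simp [hs₀])
  have hX₀P : X₀ ≠ Char.principalIrr := hP (l := l₀) (by simp [hs₀])
  have hX₁P : X₁ ≠ Char.principalIrr := hP (l := l₁) (by simp [hs₁])
  have c0η : coef K η ξ₀ = 0 := coef_eq_zero hξP hξη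
  have c01 : coef K l₁ X₀ = 0 := coef_eq_zero hX₀P (by simp [hs₁, hξ₀.symm, hX])
  have c10 : coef K l₀ X₁ = 0 := coef_eq_zero hX₁P (by simp [hs₀, hξ₁.symm, hX.symm])
  -- the two values of `Phi`
  have hPhi : Phi t (y : G) = Phi t (T : G) := by
    have h1 := pairs_formula h (y : G)
    have h2 := pairs_formula h (T : G)
    rw [h.pairs_mem y.2 (fun e => hy1 (Subtype.ext e))] at h1
    rw [h.pairs_mem T.2 (fun e => hT1 (Subtype.ext e)), h1] at h2
    exact mul_left_cancel₀ (Nat.cast_ne_zero.2 Nat.card_pos.ne') h2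
  have hdiff : ∑ ξ ∈ ({X₀, X₁} : Finset (Cfsg.IrrCharacter G)), (ξ : G → ℂ) t * (ξ : G → ℂ) t *
      ((ξ : G → ℂ) y - (ξ : G → ℂ) (T : G)) / (ξ : G → ℂ) 1 = 0 := by
    have h1 := sub_eq_zero.2 hPhi
    simp only [Phi, ← Finset.sum_sub_distrib] at h1
    rw [← h1]
    refine Eq.trans (Finset.sum_subset (Finset.subset_univ _) fun ξ _ hξ => ?_)
      (Finset.sum_congr rfl fun ξ _ => by rw [mul_sub, sub_div])
    by_cases hp : ξ = Char.principalIrr
    · subst hp; simp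
    simp only [Finset.mem_insert, Finset.mem_singleton, not_or] at hξ
    by_cases h0 : ξ = ξ₀
    · subst h0
      have hξt : (ξ : G → ℂ) (T : G) = 0 := by
        rw [hval ξ T hT1, c0η, ← he]
        rcases hfacts l₀ hg₀ with ⟨a0, -⟩ | ⟨a0, -⟩ <;>
          rcases hfacts l₁ hg₁ with ⟨a1, -⟩ | ⟨a1, -⟩ <;> simp [a0, a1]
        all_goals first
          | ring1
          | (have hs := sum_generic_apply h hη hη' huniq hT1
             rw [← hF, hF', Finset.sum_insert (by simp [hg₀.symm, h01.symm, h10.symm]),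
               Finset.sum_insert (by simp [h01'.symm, h10'.symm]), Finset.sum_pair hg₁.symm,
               AbChar.cj_apply, AbChar.cj_apply, a0, a1, hηT] at hs
             norm_num at hs)
      rw [show (ξ : G → ℂ) t = 0 from hξt]; simp
    · have e0 : coef K l₀ ξ = 0 := coef_eq_zero hp (by simp [hs₀, h0, hξ.1])
      have e1 : coef K l₁ ξ = 0 := coef_eq_zero hp (by simp [hs₁, h0, hξ.2])
      rw [hval ξ y hy1, hval ξ T hT1, e0, e1, hηy, hηT]
      simp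
  rw [Finset.sum_pair hX] at hdiff
  have hd : ∀ ξ : Cfsg.IrrCharacter G, (ξ : G → ℂ) 1 = (Char.degree (ξ : G → ℂ) : ℂ) := fun ξ =>
    (Char.IsCharacter.degree_cast (Char.IsIrrCharacter.isCharacter ξ.2)).symm
  have hsq0 := (supp_card h hl₀).1 X₀ (by simp [hs₀])
  have hsq1 := (supp_card h hl₁).1 X₁ (by simp [hs₁])
  -- each term is a nonzero multiple of the inverse signed degree
  set x : ℂ := ((coef K l₀ X₀ * (Char.degree (X₀ : G → ℂ) : ℤ) : ℤ) : ℂ) with hx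
  have hx' : x = ((coef K l₁ X₁ * (Char.degree (X₁ : G → ℂ) : ℤ) : ℤ) : ℂ) := by rw [hx, hdeg]
  have hx0 : x ≠ 0 := by
    rw [hx, Int.cast_ne_zero]
    have : 0 < Char.degree (X₀ : G → ℂ) := Char.IsIrrCharacter.degree_pos X₀.2
    rcases hsq0 with e | e <;> rw [e] <;> omega
  have hterm : ∀ (l m : Cfsg.IrrCharacter ↥K) (X : Cfsg.IrrCharacter G), AbChar.cj l ≠ l →
      coef K m X = 0 → (coef K l X = 1 ∨ coef K l X = -1) → coef K η X = coef K l X →
      ((l = l₀ ∧ m = l₁) ∨ (l = l₁ ∧ m = l₀)) →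
      x = ((coef K l X * (Char.degree (X : G → ℂ) : ℤ) : ℤ) : ℂ) →
      (X : G → ℂ) t * (X : G → ℂ) t * ((X : G → ℂ) y - (X : G → ℂ) (T : G)) / (X : G → ℂ) 1 =
          -27 / x ∨
      (X : G → ℂ) t * (X : G → ℂ) t * ((X : G → ℂ) y - (X : G → ℂ) (T : G)) / (X : G → ℂ) 1 =
          3 / x := by
    intro l m X hlg hm hc hcη hlm hxX
    have hv : ∀ z : ↥K, z ≠ 1 → (X : G → ℂ) z = -((coef K l X : ℂ) * ((η : ↥K → ℂ) z +
        ((l : ↥K → ℂ) z + conj ((l : ↥K → ℂ) z)))) := by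
      intro z hz
      rw [hval X z hz]
      rcases hlm with ⟨rfl, rfl⟩ | ⟨rfl, rfl⟩ <;> rw [hm, hcη] <;> push_cast <;> ring
    rw [show (X : G → ℂ) t = (X : G → ℂ) (T : G) from rfl, hv y hy1, hv T hT1, hηy, hηT, hd]
    have hd0 : (Char.degree (X : G → ℂ) : ℂ) ≠ 0 :=
      Nat.cast_ne_zero.2 (Char.IsIrrCharacter.degree_pos X.2).ne'
    rw [hxX]
    rcases hfacts l hlg with ⟨a, b⟩ | ⟨a, b⟩
    · right
      rw [a, b, map_one]
      rcases hc with e | e <;> rw [e] <;> push_cast <;> field_simp <;> ring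
    · left
      rw [a, b, map_neg, map_one]
      rcases hc with e | e <;> rw [e] <;> push_cast <;> field_simp <;> ring
  rcases hterm l₀ l₁ X₀ hg₀ c01 hsq0 hX₀η (Or.inl ⟨rfl, rfl⟩) hx with r0 | r0 <;>
    rcases hterm l₁ l₀ X₁ hg₁ c10 hsq1 hX₁η (Or.inr ⟨rfl, rfl⟩) hx' with r1 | r1 <;>
    rw [r0, r1, ← add_div, div_eq_zero_iff] at hdiff <;>
    rcases hdiff with e | e <;> first | exact hx0 e | norm_num at e

/-- All the induced generalized characters share one nonprincipal constituent. -/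
theorem exists_center {η : Cfsg.IrrCharacter ↥K} (hη : η ≠ Char.principalIrr)
    (hη' : AbChar.cj η = η)
    (huniq : ∀ l : Cfsg.IrrCharacter ↥K, AbChar.cj l = l → l ≠ Char.principalIrr → l = η)
    (hpm : ∀ x : ↥K, (η : ↥K → ℂ) x = 1 ∨ (η : ↥K → ℂ) x = -1)
    (hsq : ∀ x : ↥K, (η : ↥K → ℂ) (x * x) = 1) (hneg : ∃ y : ↥K, (η : ↥K → ℂ) y = -1)
    (hk : 4 ≤ Nat.card ↥K) :
    ∃ (ξ₀ : Cfsg.IrrCharacter G) (e : ℤ), ξ₀ ≠ Char.principalIrr ∧ e * e = 1 ∧
      ∀ l : Cfsg.IrrCharacter ↥K, l ≠ Char.principalIrr →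
        ξ₀ ∈ supp K l ∧ coef K l ξ₀ = e := by
  have hgP : ∀ {l : Cfsg.IrrCharacter ↥K}, AbChar.cj l ≠ l → l ≠ Char.principalIrr :=
    fun hl e => hl (by rw [e, AbChar.cj_principal])
  have hgη : ∀ {l : Cfsg.IrrCharacter ↥K}, AbChar.cj l ≠ l → η ≠ l ∧ η ≠ AbChar.cj l :=
    fun hl => ⟨fun e => hl (by rw [← e, hη']),
      fun e => hl (by
        have h2 := congrArg AbChar.cj e
        rw [hη', AbChar.cj_cj] at h2
        rw [← h2, hη'])⟩
  obtain ⟨l₀, hg₀⟩ : ∃ l : Cfsg.IrrCharacter ↥K, AbChar.cj l ≠ l := by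
    have h1 := card_generic h hη hη' huniq
    obtain ⟨l, hl⟩ := Finset.card_pos.1
      (show 0 < (Finset.univ.filter (fun l : Cfsg.IrrCharacter ↥K => AbChar.cj l ≠ l)).card by omega)
    exact ⟨l, (Finset.mem_filter.1 hl).2⟩
  have hl₀ := hgP hg₀
  have hsq1 : ∀ {l : Cfsg.IrrCharacter ↥K} {ξ : Cfsg.IrrCharacter G}, l ≠ Char.principalIrr →
      ξ ∈ supp K l → coef K l ξ * coef K l ξ = 1 := fun hl hξ => by
    rcases (supp_card h hl).1 _ hξ with e | e <;> rw [e] <;> norm_num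
  by_cases hone : ∀ l, AbChar.cj l ≠ l → l = l₀ ∨ l = AbChar.cj l₀
  · obtain ⟨ξ₀, hξ, hce⟩ := supp_inter h hl₀ hη hg₀ (hgη hg₀).1 (hgη hg₀).2
    have hmem := Finset.mem_inter.1 (hξ ▸ Finset.mem_singleton_self ξ₀)
    refine ⟨ξ₀, coef K l₀ ξ₀, (mem_supp.1 hmem.1).1, hsq1 hl₀ hmem.1, fun l hl => ?_⟩
    by_cases hlg : AbChar.cj l = l
    · rw [huniq l hlg hl]; exact ⟨hmem.2, hce.symm⟩
    · rcases hone l hlg with rfl | rfl
      · exact ⟨hmem.1, rfl⟩
      · rw [supp_cj h, coef_cj h]; exact ⟨hmem.1, rfl⟩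
  push Not at hone
  obtain ⟨l₁, hg₁, h01, h01'⟩ := hone
  have hl₁ := hgP hg₁
  obtain ⟨ξ₀, hξ, hce⟩ := supp_inter h hl₀ hl₁ hg₀ h01 h01'
  have hmem := Finset.mem_inter.1 (hξ ▸ Finset.mem_singleton_self ξ₀)
  -- second constituents
  obtain ⟨X₀, hX₀, hX₀ne⟩ : ∃ X ∈ supp K l₀, X ≠ ξ₀ := by
    refine Finset.exists_mem_ne ?_ ξ₀
    rw [(supp_card h hl₀).2.1 hg₀]; norm_num
  obtain ⟨X₁, hX₁, hX₁ne⟩ : ∃ X ∈ supp K l₁, X ≠ ξ₀ := by
    refine Finset.exists_mem_ne ?_ ξ₀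
    rw [(supp_card h hl₁).2.1 hg₁]; norm_num
  have hs₀ := pair_supp h hl₀ hg₀ hmem.1 hX₀ hX₀ne.symm
  have hs₁ := pair_supp h hl₁ hg₁ hmem.2 hX₁ hX₁ne.symm
  have hX01 : X₀ ≠ X₁ := fun e => by
    have h1 : X₀ ∈ supp K l₀ ∩ supp K l₁ := Finset.mem_inter.2 ⟨hX₀, e ▸ hX₁⟩
    rw [hξ, Finset.mem_singleton] at h1
    exact hX₀ne h1
  have hd₀ := supp_degree h hl₀
  have hd₁ := supp_degree h hl₁
  rw [hs₀, Finset.sum_pair hX₀ne.symm] at hd₀
  rw [hs₁, Finset.sum_pair hX₁ne.symm, ← hce] at hd₁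
  have hgen : ∀ m, AbChar.cj m ≠ m → ξ₀ ∈ supp K m ∧ coef K m ξ₀ = coef K l₀ ξ₀ := by
    intro m hm
    by_cases hm0 : m = l₀
    · rw [hm0]; exact ⟨hmem.1, rfl⟩
    by_cases hm0' : m = AbChar.cj l₀
    · rw [hm0', supp_cj h, coef_cj h]; exact ⟨hmem.1, rfl⟩
    by_cases hm1 : m = l₁
    · rw [hm1]; exact ⟨hmem.2, hce.symm⟩
    by_cases hm1' : m = AbChar.cj l₁
    · rw [hm1', supp_cj h, coef_cj h]; exact ⟨hmem.2, hce.symm⟩
    obtain ⟨a, ha, hac⟩ := supp_inter h hl₀ (hgP hm) hg₀ hm0 hm0'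
    obtain ⟨b, hb, hbc⟩ := supp_inter h hl₁ (hgP hm) hg₁ hm1 hm1'
    have ham := Finset.mem_inter.1 (ha ▸ Finset.mem_singleton_self a)
    have hbm := Finset.mem_inter.1 (hb ▸ Finset.mem_singleton_self b)
    have ha' := ham.1
    rw [hs₀, Finset.mem_insert, Finset.mem_singleton] at ha'
    rcases ha' with rfl | rfl
    · exact ⟨ham.2, hac.symm⟩
    exfalso
    have hξm : ξ₀ ∉ supp K m := fun e => hX₀ne (by
      have h1 : ξ₀ ∈ supp K l₀ ∩ supp K m := Finset.mem_inter.2 ⟨hmem.1, e⟩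
      rw [ha, Finset.mem_singleton] at h1
      exact h1.symm)
    have hb' := hbm.1
    rw [hs₁, Finset.mem_insert, Finset.mem_singleton] at hb'
    rcases hb' with rfl | rfl
    · exact hξm hbm.2
    have hsm := pair_supp h (hgP hm) hm ham.2 hbm.2 hX01
    have hdm := supp_degree h (hgP hm)
    rw [hsm, Finset.sum_pair hX01, ← hac, ← hbc] at hdm
    omega
  by_cases hξη : ξ₀ ∈ supp K η
  · refine ⟨ξ₀, coef K l₀ ξ₀, (mem_supp.1 hmem.1).1, hsq1 hl₀ hmem.1, fun l hl => ?_⟩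
    by_cases hlg : AbChar.cj l = l
    · rw [huniq l hlg hl]
      refine ⟨hξη, ?_⟩
      obtain ⟨a, ha, hac⟩ := supp_inter h hl₀ hη hg₀ (hgη hg₀).1 (hgη hg₀).2
      have h1 : ξ₀ ∈ supp K l₀ ∩ supp K η := Finset.mem_inter.2 ⟨hmem.1, hξη⟩
      rw [ha, Finset.mem_singleton] at h1
      exact h1 ▸ hac.symm
    · exact hgen l hlg
  exfalso
  have hcontain : ∀ m, AbChar.cj m ≠ m → ∀ X ∈ supp K m, X ≠ ξ₀ →
      X ∈ supp K η ∧ coef K η X = coef K m X ∧
      1 + coef K l₀ ξ₀ * (Char.degree (ξ₀ : G → ℂ) : ℤ) +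
        coef K m X * (Char.degree (X : G → ℂ) : ℤ) = 0 := by
    intro m hm X hX hne
    obtain ⟨a, ha, hac⟩ := supp_inter h (hgP hm) hη hm (hgη hm).1 (hgη hm).2
    have ham := Finset.mem_inter.1 (ha ▸ Finset.mem_singleton_self a)
    obtain ⟨hξm, hem⟩ := hgen m hm
    have hs := pair_supp h (hgP hm) hm hξm hX hne.symm
    have ha' := ham.1
    rw [hs, Finset.mem_insert, Finset.mem_singleton] at ha'
    rcases ha' with rfl | rfl
    · exact absurd ham.2 hξη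
    · refine ⟨ham.2, hac.symm, ?_⟩
      have hd := supp_degree h (hgP hm)
      rw [hs, Finset.sum_pair hne.symm, hem] at hd
      linarith
  obtain ⟨hX₀η, hX₀c, hX₀d⟩ := hcontain l₀ hg₀ X₀ hX₀ hX₀ne
  obtain ⟨hX₁η, hX₁c, hX₁d⟩ := hcontain l₁ hg₁ X₁ hX₁ hX₁ne
  by_cases hthree : ∀ l, AbChar.cj l ≠ l →
      l = l₀ ∨ l = AbChar.cj l₀ ∨ l = l₁ ∨ l = AbChar.cj l₁
  · exact no_six h hη hη' huniq hpm hsq hneg hl₀ hg₀ hl₁ hg₁ h01 h01' hthree hs₀ hs₁ hX01
      hX₀ne.symm hX₁ne.symm hξη hce hX₀c hX₁c (by linarith)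
  push Not at hthree
  obtain ⟨l₂, hg₂, h20, h20', h21, h21'⟩ := hthree
  obtain ⟨X₂, hX₂, hX₂ne⟩ : ∃ X ∈ supp K l₂, X ≠ ξ₀ := by
    refine Finset.exists_mem_ne ?_ ξ₀
    rw [(supp_card h (hgP hg₂)).2.1 hg₂]; norm_num
  obtain ⟨hX₂η, hX₂c, hX₂d⟩ := hcontain l₂ hg₂ X₂ hX₂ hX₂ne
  have hdist : ∀ {m : Cfsg.IrrCharacter ↥K} {X : Cfsg.IrrCharacter G}, AbChar.cj m ≠ m →
      X ∈ supp K m → X ≠ ξ₀ → l₂ ≠ m → l₂ ≠ AbChar.cj m → X₂ ≠ X := by
    intro m X hm hX hne h1 h2 e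
    obtain ⟨a, ha, -⟩ := supp_inter h (hgP hm) (hgP hg₂) hm h1 h2
    have e1 : X ∈ supp K m ∩ supp K l₂ := Finset.mem_inter.2 ⟨hX, e ▸ hX₂⟩
    have e2 : ξ₀ ∈ supp K m ∩ supp K l₂ := Finset.mem_inter.2 ⟨(hgen m hm).1, (hgen l₂ hg₂).1⟩
    rw [ha, Finset.mem_singleton] at e1 e2
    exact hne (e1.trans e2.symm)
  have d0 := hdist hg₀ hX₀ hX₀ne h20 h20'
  have d1 := hdist hg₁ hX₁ hX₁ne h21 h21'
  have hsη : supp K η = {X₀, X₁, X₂} := by
    refine (Finset.eq_of_subset_of_card_le ?_ ?_).symm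
    · simp [Finset.insert_subset_iff, hX₀η, hX₁η, hX₂η]
    · rw [(supp_card h hη).2.2 hη', Finset.card_insert_of_notMem (by simp [hX01, d0.symm]),
        Finset.card_pair d1.symm]
  have hdη := supp_degree h hη
  rw [hsη, Finset.sum_insert (by simp [hX01, d0.symm]), Finset.sum_pair d1.symm, hX₀c, hX₁c,
    hX₂c] at hdη
  omega

end CfsgLib.InvChar.BSW
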