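import Mathlib.GroupTheory.Index
import Mathlib.GroupTheory.OrderOfElement
import Mathlib.GroupTheory.Perm.Cycle.Type
import Mathlib.Data.Finite.Card

/-!
# Trivial-intersection counting and fixed-point-free involutions
-/

set_option autoImplicit false

namespace CfsgLib.InvChar.BSW

variable {G : Type*} [Group G]

/-- The elements conjugate to nonidentity elements of `B`. -/
def spread (B : Subgroup G) : Set G := {z | z ≠ 1 ∧ ∃ g : G, g * z * g⁻¹ ∈ B}

theorem mem_spread {B : Subgroup G} {z : G} :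
    z ∈ spread B ↔ z ≠ 1 ∧ ∃ g : G, g * z * g⁻¹ ∈ B := Iff.rfl

theorem mem_spread_self {B : Subgroup G} {z : G} (hz : z ∈ B) (h1 : z ≠ 1) : z ∈ spread B :=
  ⟨h1, 1, by simpa using hz⟩

theorem spread_inv {B : Subgroup G} {z : G} (h : z ∈ spread B) : z⁻¹ ∈ spread B := by
  obtain ⟨h1, g, hg⟩ := h
  refine ⟨by simpa using h1, g, ?_⟩
  have := B.inv_mem hg
  simpa [mul_assoc] using this

theorem spread_conj {B : Subgroup G} {z : G} (h : z ∈ spread B) (x : G) :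
    x * z * x⁻¹ ∈ spread B := by
  obtain ⟨h1, g, hg⟩ := h
  exact ⟨fun e => h1 (conj_eq_one_iff.1 e), g * x⁻¹, by simpa [mul_assoc] using hg⟩

/-- Counting the conjugates of a trivial-intersection subgroup with normalizer `N`. -/
theorem card_spread [Finite G] (B N : Subgroup G)
    (hTI : ∀ g x : G, x ∈ B → x ≠ 1 → g * x * g⁻¹ ∈ B → g ∈ N)
    (hN : ∀ g ∈ N, ∀ x ∈ B, g * x * g⁻¹ ∈ B) :
    Nat.card (spread B) * Nat.card N = Nat.card G * (Nat.card B - 1) := by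
  classical
  haveI := Fintype.ofFinite G
  have hB : Nat.card {x : G // x ∈ B ∧ x ≠ 1} = Nat.card B - 1 := by
    have h1 := Set.ncard_sdiff_singleton_of_mem (a := (1 : G)) (s := (B : Set G)) B.one_mem
    rw [← Nat.card_coe_set_eq, ← Nat.card_coe_set_eq] at h1
    exact h1
  let f : G × {x : G // x ∈ B ∧ x ≠ 1} → spread B := fun p =>
    ⟨p.1 * p.2.1 * p.1⁻¹, fun e => p.2.2.2 (conj_eq_one_iff.1 e), p.1⁻¹,
      by simpa [mul_assoc] using p.2.2.1⟩
  have hfib : ∀ z : spread B, Nat.card {p // f p = z} = Nat.card N := by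
    rintro ⟨z, hz1, g, hg⟩
    symm
    refine Nat.card_congr
      { toFun := fun n => ⟨(g⁻¹ * (n : G)⁻¹, ⟨(n : G) * (g * z * g⁻¹) * (n : G)⁻¹,
            hN _ n.2 _ hg, fun e => hz1 (conj_eq_one_iff.1 (conj_eq_one_iff.1 e))⟩),
            Subtype.ext (by show g⁻¹ * (n : G)⁻¹ * _ * _ = z; group)⟩
        invFun := fun p => ⟨p.1.1⁻¹ * g⁻¹, ?_⟩
        left_inv := ?_
        right_inv := ?_ }
    · obtain ⟨⟨y, b, hb, hb1⟩, hp⟩ := p
      have hp' : y * b * y⁻¹ = z := congrArg Subtype.val hp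
      refine hTI _ (g * z * g⁻¹) hg (fun e => hz1 (conj_eq_one_iff.1 e)) ?_
      show y⁻¹ * g⁻¹ * (g * z * g⁻¹) * (y⁻¹ * g⁻¹)⁻¹ ∈ B
      rw [← hp']
      simpa [mul_assoc] using hb
    · intro n
      exact Subtype.ext (by simp)
    · rintro ⟨⟨y, b, hb, hb1⟩, hp⟩
      have hp' : y * b * y⁻¹ = z := congrArg Subtype.val hp
      refine Subtype.ext (Prod.ext (by simp) (Subtype.ext ?_))
      show y⁻¹ * g⁻¹ * (g * z * g⁻¹) * (y⁻¹ * g⁻¹)⁻¹ = b
      rw [← hp']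
      group
  calc Nat.card (spread B) * Nat.card N
      = ∑ z : spread B, Nat.card {p // f p = z} := by
        rw [Finset.sum_congr rfl fun z _ => hfib z, Finset.sum_const, Finset.card_univ,
          smul_eq_mul, Nat.card_eq_fintype_card]
    _ = Nat.card (G × {x : G // x ∈ B ∧ x ≠ 1}) := by
        rw [← Nat.card_sigma, Nat.card_congr (Equiv.sigmaFiberEquiv f)]
    _ = Nat.card G * (Nat.card B - 1) := by rw [Nat.card_prod, hB]

theorem eq_one_of_sq_of_odd {A : Subgroup G} (hA : Odd (Nat.card A)) {a : G} (ha : a ∈ A)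
    (h : a ^ 2 = 1) : a = 1 := by
  have h1 : orderOf a ∣ 2 := orderOf_dvd_of_pow_eq_one h
  have h2 : orderOf a ∣ Nat.card A := Subgroup.orderOf_dvd_natCard A ha
  exact orderOf_eq_one_iff.1 (Nat.eq_one_of_dvd_coprimes (Nat.coprime_two_left.2 hA) h1 h2)

theorem exists_sq_root {A : Subgroup G} (hA : Odd (Nat.card A)) {b : G} (hb : b ∈ A) :
    ∃ e ∈ A, e * e = b := by
  obtain ⟨j, hj⟩ := hA
  refine ⟨b ^ (j + 1), A.pow_mem hb _, ?_⟩
  have h1 : b ^ Nat.card A = 1 := congrArg Subtype.val (pow_card_eq_one' (x := (⟨b, hb⟩ : A)))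
  rw [← pow_add, show j + 1 + (j + 1) = Nat.card A + 1 by omega, pow_succ, h1, one_mul]

/-- An element acting on an odd order subgroup as a fixed-point-free involution inverts it. -/
theorem inverts_of_fpf [Finite G] {A : Subgroup G} (hA : Odd (Nat.card A)) {u : G}
    (hu : u * u = 1) (hn : ∀ a ∈ A, u * a * u⁻¹ ∈ A)
    (hfpf : ∀ a ∈ A, u * a * u⁻¹ = a → a = 1) {a : G} (ha : a ∈ A) : u * a * u⁻¹ = a⁻¹ := by
  let f : A → A := fun b => ⟨(b : G)⁻¹ * (u * b * u⁻¹), A.mul_mem (A.inv_mem b.2) (hn b b.2)⟩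
  have hf : Function.Injective f := by
    intro b c h
    have h' : (b : G)⁻¹ * (u * b * u⁻¹) = (c : G)⁻¹ * (u * c * u⁻¹) := congrArg Subtype.val h
    have hfix : u * ((c : G) * (b : G)⁻¹) * u⁻¹ = (c : G) * (b : G)⁻¹ := by
      calc u * ((c : G) * (b : G)⁻¹) * u⁻¹
          = c * ((c : G)⁻¹ * (u * c * u⁻¹)) * (u * b * u⁻¹)⁻¹ := by group
        _ = c * ((b : G)⁻¹ * (u * b * u⁻¹)) * (u * b * u⁻¹)⁻¹ := by rw [← h']
        _ = c * (b : G)⁻¹ := by group
    exact Subtype.ext (mul_inv_eq_one.1 (hfpf _ (A.mul_mem c.2 (A.inv_mem b.2)) hfix)).symm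
  obtain ⟨b, hb⟩ := (Finite.injective_iff_surjective.1 hf) ⟨a, ha⟩
  have hb' : (b : G)⁻¹ * (u * b * u⁻¹) = a := congrArg Subtype.val hb
  have hui : u⁻¹ = u := inv_eq_of_mul_eq_one_right hu
  rw [← hb', hui]
  calc u * ((b : G)⁻¹ * (u * b * u)) * u
      = u * (b : G)⁻¹ * u * b * (u * u) := by group
    _ = u * (b : G)⁻¹ * u * b := by rw [hu, mul_one]
    _ = ((b : G)⁻¹ * (u⁻¹ * b * u⁻¹))⁻¹ := by group
    _ = ((b : G)⁻¹ * (u * b * u))⁻¹ := by rw [hui]

end CfsgLib.InvChar.BSW
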