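import Cfsg.Agent.Lib.InvChar.BSW.Setup
import Mathlib.GroupTheory.Nilpotent
import Mathlib.GroupTheory.PGroup

/-!
# Local lemmas for the Brauer–Suzuki–Wall theorem
-/

set_option autoImplicit false

namespace CfsgLib.InvChar.BSW

variable {G : Type*} [Group G]

local notation "C(" x ")" => Subgroup.centralizer ({x} : Set _)

/-- A subgroup containing the centralizer of each of its elements of order `r` contains a full
Sylow `r`-subgroup. -/
theorem exists_sylow_le [Finite G] {r : ℕ} [Fact r.Prime] {A : Subgroup G}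
    (hA : ∀ x ∈ A, orderOf x = r → C(x) ≤ A) (hr : r ∣ Nat.card A) :
    ∃ P : Sylow r G, (P : Subgroup G) ≤ A := by
  obtain ⟨y, hy⟩ := exists_prime_orderOf_dvd_card' r hr
  have hy' : orderOf (y : G) = r := by rw [Subgroup.orderOf_coe, hy]
  obtain ⟨P, hP⟩ := (show IsPGroup r (Subgroup.zpowers (y : G)) from
    IsPGroup.of_card (n := 1) (by rw [Nat.card_zpowers, hy', pow_one])).exists_le_sylow
  have hyP : (y : G) ∈ (P : Subgroup G) := hP (Subgroup.mem_zpowers _)
  haveI : Nontrivial (P : Subgroup G) := by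
    rw [Subgroup.nontrivial_iff_ne_bot]
    intro e
    rw [e, Subgroup.mem_bot] at hyP
    rw [hyP, orderOf_one] at hy'
    exact (Fact.out : r.Prime).ne_one hy'.symm
  haveI := P.isPGroup'.center_nontrivial
  obtain ⟨w₀, hw₀⟩ : ∃ w₀ : Subgroup.center (P : Subgroup G), orderOf w₀ = r := by
    refine exists_prime_orderOf_dvd_card' r ?_
    rcases ((P.isPGroup').to_subgroup (Subgroup.center (P : Subgroup G))).card_eq_or_dvd with h | h
    · exact absurd h (Finite.one_lt_card).ne'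
    · exact h
  set w : G := ((w₀ : (P : Subgroup G)) : G) with hwdef
  have hw : orderOf w = r := by rw [hwdef, Subgroup.orderOf_coe, Subgroup.orderOf_coe, hw₀]
  have hwc : ∀ s ∈ (P : Subgroup G), s * w = w * s := fun s hs =>
    congrArg Subtype.val (Subgroup.mem_center_iff.1 w₀.2 ⟨s, hs⟩)
  have hwA : w ∈ A := hA y y.2 hy' (mem_cent.2 (hwc y hyP).symm)
  exact ⟨P, fun x hx => hA w hwA hw (mem_cent.2 (hwc x hx))⟩

/-- Every nonidentity `r`-element is then conjugate into `A`. -/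
theorem mem_spread_of_prime [Finite G] {r : ℕ} [Fact r.Prime] {A : Subgroup G}
    (hA : ∀ x ∈ A, orderOf x = r → C(x) ≤ A) (hr : r ∣ Nat.card A) {c : G} (hc : orderOf c = r) :
    c ∈ spread A := by
  obtain ⟨P, hP⟩ := exists_sylow_le hA hr
  obtain ⟨R, hR⟩ := (show IsPGroup r (Subgroup.zpowers c) from
    IsPGroup.of_card (n := 1) (by rw [Nat.card_zpowers, hc, pow_one])).exists_le_sylow
  obtain ⟨g, hg⟩ := MulAction.exists_smul_eq G R P
  refine ⟨fun e => ?_, g, hP ?_⟩
  · rw [e, orderOf_one] at hc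
    exact (Fact.out : r.Prime).ne_one hc.symm
  · rw [← hg, Sylow.coe_subgroup_smul]
    exact ⟨c, hR (Subgroup.mem_zpowers c), rfl⟩

/-- An element normalized by a trivial-intersection subgroup's normalizer. -/
theorem normalizer_eq {D N : Subgroup G}
    (hTI : ∀ g x : G, x ∈ D → x ≠ 1 → g * x * g⁻¹ ∈ D → g ∈ N)
    (hN : ∀ g ∈ N, ∀ x ∈ D, g * x * g⁻¹ = x ∨ g * x * g⁻¹ = x⁻¹) {X : Subgroup G} (hX : X ≤ D)
    (hX1 : X ≠ ⊥) : Subgroup.normalizer (X : Set G) = N := by
  obtain ⟨x, hx, hx1⟩ : ∃ x ∈ X, x ≠ 1 := by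
    by_contra! h
    exact hX1 ((Subgroup.eq_bot_iff_forall _).2 h)
  refine le_antisymm (fun g hg => hTI g x (hX hx) hx1 (hX ((Subgroup.mem_normalizer_iff.1 hg x).1 hx)))
    fun g hg => Subgroup.mem_normalizer_iff.2 fun a => ?_
  have key : ∀ g' ∈ N, ∀ b ∈ X, g' * b * g'⁻¹ ∈ X := fun g' hg' b hb => by
    rcases hN g' hg' b (hX hb) with e | e <;> rw [e]
    · exact hb
    · exact X.inv_mem hb
  refine ⟨key g hg a, fun h => ?_⟩
  have := key g⁻¹ (N.inv_mem hg) _ h
  simpa [mul_assoc] using this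

/-- Normalizers grow. -/
theorem exists_normalizing_notMem [Finite G] {p : ℕ} [Fact p.Prime] (P : Sylow p G)
    {D : Subgroup G} (hD : D < (P : Subgroup G)) :
    ∃ n ∈ (P : Subgroup G), n ∈ Subgroup.normalizer (D : Set G) ∧ n ∉ D := by
  haveI hnil : Group.IsNilpotent (P : Subgroup G) := P.isPGroup'.isNilpotent
  have hlt : D.subgroupOf (P : Subgroup G) < ⊤ := by
    rw [lt_top_iff_ne_top, ne_eq, Subgroup.subgroupOf_eq_top]
    exact fun h => hD.not_ge h
  obtain ⟨⟨n, hnP⟩, hnN, hnD⟩ :=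
    SetLike.exists_of_lt (Group.normalizerCondition_of_isNilpotent _ hlt)
  refine ⟨n, hnP, Subgroup.mem_normalizer_iff.2 fun a => ?_, hnD⟩
  have hn := Subgroup.mem_normalizer_iff.1 hnN
  constructor
  · intro ha
    exact (hn ⟨a, hD.le ha⟩).1 ha
  · intro ha
    have haP : a ∈ (P : Subgroup G) := by
      have := (P : Subgroup G).mul_mem ((P : Subgroup G).mul_mem
        ((P : Subgroup G).inv_mem hnP) (hD.le ha)) hnP
      simpa [mul_assoc] using this
    exact (hn ⟨a, haP⟩).2 ha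

end CfsgLib.InvChar.BSW
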