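import Cfsg.Agent.Lib.InvChar.BSW.Plus

/-!
# The `p`-local subgroups in the case of a torus of odd order
-/

set_option autoImplicit false

open scoped Classical

namespace CfsgLib.InvChar.BSW

variable {G : Type*} [Group G]

local notation "C(" x ")" => Subgroup.centralizer ({x} : Set _)

/-- An abelian subgroup whose normalizer has, in odd order subgroups, only its own elements. -/
structure Torus (B : Subgroup G) : Prop where
  cent : ∀ x ∈ B, x ^ 2 ≠ 1 → C(x) = B
  sq : ∀ g x : G, x ∈ B → x ^ 2 ≠ 1 → g * x * g⁻¹ ∈ B → g * g ∈ B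

theorem Torus.of_conj {B : Subgroup G} (hB : Torus B) {g y : G} (hy : g * y * g⁻¹ ∈ B)
    (hy2 : y ^ 2 ≠ 1) : Torus (C(y) : Subgroup G) := by
  have hgy : (g * y * g⁻¹) ^ 2 ≠ 1 := by
    rw [conj_pow]
    simpa using hy2
  have hmem : ∀ a, a ∈ C(y) ↔ g * a * g⁻¹ ∈ B := fun a => by
    rw [← hB.cent _ hy hgy, mem_cent_conj]
    simp [mul_assoc]
  have hconj2 : ∀ a : G, a ^ 2 ≠ 1 → (g * a * g⁻¹) ^ 2 ≠ 1 := fun a ha => by
    rw [conj_pow]
    simpa using ha
  refine ⟨fun x hx hx2 => ?_, fun u x hx hx2 hux => ?_⟩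
  · ext a
    have : a ∈ C(x) ↔ g * a * g⁻¹ ∈ C(g * x * g⁻¹) := by
      rw [mem_cent_conj]; simp [mul_assoc]
    rw [this, hB.cent _ ((hmem x).1 hx) (hconj2 x hx2), hmem]
  · rw [hmem, show g * (u * u) * g⁻¹ = (g * u * g⁻¹) * (g * u * g⁻¹) by group]
    refine hB.sq _ _ ((hmem x).1 hx) (hconj2 x hx2) ?_
    rw [show g * u * g⁻¹ * (g * x * g⁻¹) * (g * u * g⁻¹)⁻¹ = g * (u * x * u⁻¹) * g⁻¹ by group]
    exact (hmem _).1 hux

variable [Finite G]

theorem sq_ne_one_of_mem_odd {M : Subgroup G} (hM : Odd (Nat.card M)) {x : G} (hx : x ∈ M)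
    (h1 : x ≠ 1) : x ^ 2 ≠ 1 := fun e => h1 (eq_one_of_sq_of_odd hM hx e)

theorem mem_of_sq_mem_odd {M B : Subgroup G} (hM : Odd (Nat.card M)) {x : G} (hx : x ∈ M)
    (h : x * x ∈ B) : x ∈ B := by
  obtain ⟨j, hj⟩ := hM
  have h1 : x ^ Nat.card M = 1 := congrArg Subtype.val (pow_card_eq_one' (x := (⟨x, hx⟩ : M)))
  rw [show x = (x * x) ^ (j + 1) by
    rw [← pow_two, ← pow_mul, show 2 * (j + 1) = Nat.card M + 1 by omega, pow_succ, h1, one_mul]]
  exact B.pow_mem h _

/-- In an odd order subgroup meeting a torus, the elements outside the tori number the index of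
the torus, a power of `p`. -/
theorem torus_count {p : ℕ} [Fact p.Prime] {M : Subgroup G} (hodd : Odd (Nat.card M))
    (hsplit : ∀ x ∈ M, x ≠ 1 → orderOf x = p ∨
      (Torus (C(x) : Subgroup G) ∧ Nat.Coprime p (Nat.card (C(x) : Subgroup G))))
    {y : G} (hy : y ∈ M) (hy1 : y ≠ 1) (hyp : orderOf y ≠ p) :
    ∃ a : ℕ, Nat.card {x : M // x = 1 ∨ orderOf (x : G) = p} = p ^ a ∧
      p ^ a * Nat.card ((C(y) ⊓ M : Subgroup G)) = Nat.card M := by
  haveI := Fintype.ofFinite G
  obtain ⟨hT, hcop⟩ := (hsplit y hy hy1).resolve_left hyp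
  set B : Subgroup M := (C(y) : Subgroup G).subgroupOf M with hB
  have hBcard : Nat.card B = Nat.card ((C(y) ⊓ M : Subgroup G)) :=
    Nat.card_congr
      { toFun := fun b => ⟨((b : M) : G), Subgroup.mem_inf.2 ⟨b.2, (b : M).2⟩⟩
        invFun := fun b => ⟨⟨b.1, (Subgroup.mem_inf.1 b.2).2⟩, (Subgroup.mem_inf.1 b.2).1⟩
        left_inv := fun b => rfl
        right_inv := fun b => rfl }
  have hTI : ∀ g x : M, x ∈ B → x ≠ 1 → g * x * g⁻¹ ∈ B → g ∈ B := fun g x hx hx1 hgx =>
    mem_of_sq_mem_odd hodd g.2 (hT.sq g x hx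
      (sq_ne_one_of_mem_odd hodd x.2 fun e => hx1 (Subtype.ext e)) hgx)
  have hsp := card_spread B B hTI (fun g hg x hx => B.mul_mem (B.mul_mem hg hx) (B.inv_mem hg))
  have hBdvd : Nat.card B ∣ Nat.card (C(y) : Subgroup G) := by
    rw [hBcard]; exact Subgroup.card_dvd_of_le inf_le_left
  have hB3 : 3 ≤ Nat.card B := by
    have h1 : (⟨y, hy⟩ : M) ∈ B := mem_cent.2 rfl
    have h2 : orderOf y ∣ Nat.card B := by
      rw [show y = ((⟨y, hy⟩ : M) : G) from rfl, Subgroup.orderOf_coe]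
      exact Subgroup.orderOf_dvd_natCard B h1
    have h3 : orderOf y ≠ 1 := fun e => hy1 (orderOf_eq_one_iff.1 e)
    have h4 : orderOf y ≠ 2 := fun e => sq_ne_one_of_mem_odd hodd hy hy1
      (e ▸ pow_orderOf_eq_one y)
    have h5 := orderOf_pos y
    have h6 := Nat.le_of_dvd Nat.card_pos h2
    omega
  -- every element off `p` is conjugate into `B`
  have hall : ∀ z : M, z ≠ 1 → orderOf (z : G) ≠ p → z ∈ spread B := by
    intro z hz1 hzp
    have hzG : (z : G) ≠ 1 := fun e => hz1 (Subtype.ext e)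
    obtain ⟨hTz, -⟩ := (hsplit z z.2 hzG).resolve_left hzp
    set B' : Subgroup M := (C((z : G)) : Subgroup G).subgroupOf M with hB'
    by_contra hcon
    have hTI' : ∀ g x : M, x ∈ B' → x ≠ 1 → g * x * g⁻¹ ∈ B' → g ∈ B' := fun g x hx hx1 hgx =>
      mem_of_sq_mem_odd hodd g.2 (hTz.sq g x hx
        (sq_ne_one_of_mem_odd hodd x.2 fun e => hx1 (Subtype.ext e)) hgx)
    have hsp' := card_spread B' B' hTI'
      (fun g hg x hx => B'.mul_mem (B'.mul_mem hg hx) (B'.inv_mem hg))
    have hB'3 : 3 ≤ Nat.card B' := by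
      have h1 : z ∈ B' := mem_cent.2 rfl
      have h2 : orderOf (z : G) ∣ Nat.card B' := by
        rw [Subgroup.orderOf_coe]; exact Subgroup.orderOf_dvd_natCard B' h1
      have h3 : orderOf (z : G) ≠ 1 := fun e => hzG (orderOf_eq_one_iff.1 e)
      have h4 : orderOf (z : G) ≠ 2 := fun e => sq_ne_one_of_mem_odd hodd z.2 hzG
        (e ▸ pow_orderOf_eq_one (z : G))
      have h5 := orderOf_pos (z : G)
      have h6 := Nat.le_of_dvd Nat.card_pos h2
      omega
    have hdisj : Disjoint (spread B) (spread B') := by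
      rw [Set.disjoint_left]
      rintro w ⟨hw1, g, hg⟩ ⟨-, g', hg'⟩
      refine hcon ⟨hz1, g * g'⁻¹, ?_⟩
      have hne : ∀ u : M, u * w * u⁻¹ ≠ 1 := fun u e => hw1 (conj_eq_one_iff.1 e)
      have e1 : C(((g * w * g⁻¹ : M) : G)) = (C(y) : Subgroup G) := hT.cent _ hg
        (sq_ne_one_of_mem_odd hodd (g * w * g⁻¹).2 fun e => hne g (Subtype.ext e))
      have e2 : C(((g' * w * g'⁻¹ : M) : G)) = (C((z : G)) : Subgroup G) := hTz.cent _ hg'
        (sq_ne_one_of_mem_odd hodd (g' * w * g'⁻¹).2 fun e => hne g' (Subtype.ext e))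
      show ((g * g'⁻¹ * z * (g * g'⁻¹)⁻¹ : M) : G) ∈ C(y)
      rw [← e1]
      have hz' : (z : G) ∈ C(((g' * w * g'⁻¹ : M) : G)) := by rw [e2]; exact mem_cent.2 rfl
      simp only [Subgroup.coe_mul, Subgroup.coe_inv] at hz' ⊢
      rw [mem_cent_conj] at hz' ⊢
      simpa [mul_assoc] using hz'
    have hle : Nat.card (spread B) + Nat.card (spread B') ≤ Nat.card M := by
      rw [Nat.card_coe_set_eq, Nat.card_coe_set_eq, ← Set.ncard_union_eq hdisj, ← Set.ncard_univ]
      exact Set.ncard_le_ncard (Set.subset_univ _)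
    have hM : 0 < Nat.card M := Nat.card_pos
    obtain ⟨b, hb⟩ : ∃ b, Nat.card B = b + 1 := ⟨Nat.card B - 1, by omega⟩
    obtain ⟨b', hb'⟩ : ∃ b', Nat.card B' = b' + 1 := ⟨Nat.card B' - 1, by omega⟩
    rw [hb, Nat.add_sub_cancel] at hsp
    rw [hb', Nat.add_sub_cancel] at hsp'
    set S := Nat.card (spread B)
    set S' := Nat.card (spread B')
    have h1 : (Nat.card M * (b * (b' + 1)) + Nat.card M * (b' * (b + 1))) ≤
        Nat.card M * ((b + 1) * (b' + 1)) := by
      calc Nat.card M * (b * (b' + 1)) + Nat.card M * (b' * (b + 1))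
          = (S + S') * ((b + 1) * (b' + 1)) := by
            rw [← mul_assoc (Nat.card M) b, ← hsp, ← mul_assoc (Nat.card M) b', ← hsp']; ring
        _ ≤ Nat.card M * ((b + 1) * (b' + 1)) := Nat.mul_le_mul_right _ hle
    rw [← Nat.mul_add] at h1
    have h2 := Nat.le_of_mul_le_mul_left h1 hM
    have h3 : 2 * b' ≤ b * b' := Nat.mul_le_mul_right _ (by omega)
    have h4 : b * (b' + 1) + b' * (b + 1) = (b + 1) * (b' + 1) + b * b' - 1 := by
      have : b * (b' + 1) + b' * (b + 1) + 1 = (b + 1) * (b' + 1) + b * b' := by ring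
      omega
    have h5 : 2 * 2 ≤ b * b' := Nat.mul_le_mul (by omega) (by omega)
    omega
  -- so the `p`-elements number the index of `B`
  set U := {x : M | x = 1 ∨ orderOf (x : G) = p} with hU
  have hUcard : Nat.card U * Nat.card B = Nat.card M := by
    have hdisj : Disjoint U (spread B) := by
      rw [Set.disjoint_left]
      rintro x (rfl | hx) ⟨hx1, g, hg⟩
      · exact hx1 rfl
      · have hd : p ∣ Nat.card (C(y) : Subgroup G) := by
          rw [← hx, Subgroup.orderOf_coe]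
          refine dvd_trans ?_ hBdvd
          rw [← Invol.orderOf_conj g x]
          exact Subgroup.orderOf_dvd_natCard B hg
        exact (Fact.out : p.Prime).ne_one (Nat.eq_one_of_dvd_coprimes hcop dvd_rfl hd)
    have hu : U ∪ spread B = Set.univ := by
      refine Set.eq_univ_of_forall fun x => ?_
      by_cases h1 : x = 1
      · exact Or.inl (Or.inl h1)
      by_cases h2 : orderOf (x : G) = p
      · exact Or.inl (Or.inr h2)
      · exact Or.inr (hall x h1 h2)
    have h1 : Nat.card U + Nat.card (spread B) = Nat.card M := by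
      rw [Nat.card_coe_set_eq, Nat.card_coe_set_eq, ← Set.ncard_union_eq hdisj, hu, Set.ncard_univ]
    obtain ⟨b, hb⟩ : ∃ b, Nat.card B = b + 1 := ⟨Nat.card B - 1, by omega⟩
    rw [hb, Nat.add_sub_cancel] at hsp
    rw [hb]
    have := congrArg (fun m => m * (b + 1)) h1
    simp only [add_mul, hsp] at this
    linarith
  have hUpos : Nat.card U ≠ 0 := by
    intro e
    rw [e, zero_mul] at hUcard
    exact Nat.card_pos.ne hUcard
  have honly : ∀ {r : ℕ}, r.Prime → r ∣ Nat.card U → r = p := by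
    intro r hr hrU
    by_contra hrp
    haveI := Fact.mk hr
    have hrM : r ∣ Nat.card M := dvd_trans hrU (Dvd.intro _ hUcard)
    obtain ⟨x, hx⟩ := exists_prime_orderOf_dvd_card' r hrM
    have hxne : x ≠ 1 := fun e => by
      rw [e, orderOf_one] at hx; exact hr.ne_one hx.symm
    obtain ⟨-, g, hg⟩ := hall x hxne (by rw [Subgroup.orderOf_coe, hx]; exact hrp)
    have hrB : r ∣ Nat.card B := by
      rw [← hx, ← Invol.orderOf_conj g x]
      exact Subgroup.orderOf_dvd_natCard B hg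
    obtain ⟨P, hP⟩ := exists_sylow_le (A := B) (r := r) (fun a ha har c hc => by
      have h1 := hT.cent (a : G) ha (sq_ne_one_of_mem_odd hodd a.2 fun e => by
        have h2 : a = 1 := Subtype.ext e
        rw [h2, orderOf_one] at har
        exact hr.ne_one har.symm)
      show (c : G) ∈ C(y)
      rw [← h1, mem_cent]
      exact congrArg Subtype.val (mem_cent.1 hc)) hrB
    obtain ⟨l, hl⟩ := Subgroup.card_dvd_of_le hP
    refine P.not_dvd_index ?_
    have hidx := Subgroup.card_mul_index (P : Subgroup M)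
    have h3 : (P : Subgroup M).index = Nat.card U * l := by
      refine Nat.eq_of_mul_eq_mul_left (show 0 < Nat.card (P : Subgroup M) from Nat.card_pos) ?_
      rw [hidx, ← hUcard, hl]; ring
    rw [h3]
    exact dvd_mul_of_dvd_left hrU l
  have hpow := Nat.eq_prime_pow_of_unique_prime_dvd hUpos (fun hr hrU => honly hr hrU)
  refine ⟨_, hpow, ?_⟩
  rw [← hBcard]
  exact (congrArg (· * Nat.card B) hpow).symm.trans hUcard

/-- The elements of order `p` of such a subgroup generate a `p`-group. -/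
theorem mul_mem_pElements {p : ℕ} [Fact p.Prime] {M : Subgroup G} (hodd : Odd (Nat.card M))
    (hexp : ∀ x : G, IsPGroup p (Subgroup.zpowers x) → x ≠ 1 → orderOf x = p)
    (hsplit : ∀ x ∈ M, x ≠ 1 → orderOf x = p ∨
      (Torus (C(x) : Subgroup G) ∧ Nat.Coprime p (Nat.card (C(x) : Subgroup G))))
    (P : Sylow p M) : ∀ x : M, x ∈ (P : Subgroup M) ↔ (x = 1 ∨ orderOf (x : G) = p) := by
  haveI := Fintype.ofFinite G
  have hsub : ∀ x : M, x ∈ (P : Subgroup M) → x = 1 ∨ orderOf (x : G) = p := by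
    intro x hx
    by_cases h1 : x = 1
    · exact Or.inl h1
    refine Or.inr (hexp x ?_ fun e => h1 (Subtype.ext e))
    obtain ⟨a, ha⟩ := P.isPGroup'.exists_card_eq
    have hd : orderOf (x : G) ∣ p ^ a := by
      rw [Subgroup.orderOf_coe, ← ha]
      exact Subgroup.orderOf_dvd_natCard _ hx
    obtain ⟨b, -, hb⟩ := (Nat.dvd_prime_pow Fact.out).1 hd
    exact IsPGroup.of_card (n := b) (by rw [Nat.card_zpowers, hb])
  by_cases hex : ∃ y ∈ M, y ≠ 1 ∧ orderOf y ≠ p
  · obtain ⟨y, hy, hy1, hyp⟩ := hex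
    obtain ⟨a, ha, hac⟩ := torus_count hodd hsplit hy hy1 hyp
    set U : Set M := {x | x = 1 ∨ orderOf (x : G) = p}
    have hUP : ((P : Subgroup M) : Set M) = U := by
      refine Set.eq_of_subset_of_ncard_le hsub ?_ (Set.toFinite _)
      rw [← Nat.card_coe_set_eq, ← Nat.card_coe_set_eq]
      refine le_trans (le_of_eq ha) ?_
      obtain ⟨b, hb⟩ := P.isPGroup'.exists_card_eq
      have hidx := Subgroup.card_mul_index (P : Subgroup M)
      rw [← hac, hb] at hidx
      rw [SetLike.coe_sort_coe, hb]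
      refine Nat.pow_le_pow_right (Fact.out : p.Prime).pos ?_
      by_contra hlt
      push Not at hlt
      refine P.not_dvd_index ⟨p ^ (a - b - 1) * Nat.card ((C(y) ⊓ M : Subgroup G)), ?_⟩
      refine Nat.eq_of_mul_eq_mul_left (pow_pos (Fact.out : p.Prime).pos b) ?_
      rw [hidx, show a = b + (a - b - 1) + 1 by omega, pow_succ, pow_add,
        show b + (a - b - 1) + 1 - b - 1 = a - b - 1 by omega]
      ring
    exact fun x => Set.ext_iff.1 hUP x
  · push Not at hex
    refine fun x => ⟨hsub x, fun _ => ?_⟩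
    have hMp : IsPGroup p (⊤ : Subgroup M) := by
      intro z
      refine ⟨1, ?_⟩
      by_cases hz : (z : M) = 1
      · rw [show z = 1 from Subtype.ext hz, one_pow]
      · apply Subtype.ext; apply Subtype.ext
        have h1 := hex _ ((z : M)).2 fun e => hz (Subtype.ext e)
        show ((z : M) : G) ^ p ^ 1 = 1
        rw [pow_one]
        exact orderOf_dvd_iff_pow_eq_one.1 (dvd_of_eq h1)
    have := P.is_maximal' hMp le_top
    rw [← this]; trivial

end CfsgLib.InvChar.BSW
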