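import Cfsg.Agent.Lib.InvChar.BSW.Setup
import Cfsg.Agent.Lib.InvChar.BSW.AbChar
import Cfsg.Agent.Lib.Char.Induced
import Cfsg.Agent.Lib.Char.Exceptional
import Cfsg.Agent.Lib.Invol.BrauerSuzukiLarge

/-!
# Induced generalized characters in the Brauer–Suzuki–Wall configuration
-/

set_option autoImplicit false

open scoped ComplexConjugate

namespace CfsgLib.InvChar.BSW

universe u

variable {G : Type u} [Group G] [Fintype G] {t s : G} {K : Subgroup G} [Fintype ↥K]
  (h : Hyp t s K)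

local notation "C(" x ")" => Subgroup.centralizer ({x} : Set _)

/-- The function `1 - l` on `K`. -/
noncomputable def base (K : Subgroup G) (l : Cfsg.IrrCharacter ↥K) : ↥K → ℂ :=
  fun x => 1 - (l : ↥K → ℂ) x

/-- The generalized character induced from `1 - l`. -/
noncomputable def phi (K : Subgroup G) (l : Cfsg.IrrCharacter ↥K) : G → ℂ :=
  Cfsg.indFun K (base K l)

theorem isGeneralized_phi (K : Subgroup G) (l : Cfsg.IrrCharacter ↥K) :
    Cfsg.IsGeneralizedCharacter G (phi K l) := by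
  classical
  haveI := Fintype.ofFinite ↥K
  refine Char.IsGeneralizedCharacter.indFun K ?_
  exact Char.IsGeneralizedCharacter.sub
    (Char.IsIrrCharacter.isGeneralizedCharacter Char.isIrrCharacter_principal)
    (Char.IsIrrCharacter.isGeneralizedCharacter l.2)

theorem isClass_phi (K : Subgroup G) (l : Cfsg.IrrCharacter ↥K) :
    Cfsg.IsClassFunction G (phi K l) :=
  Char.IsGeneralizedCharacter.isClassFunction (isGeneralized_phi K l)

/-- The coefficient of `ξ` in `phi K l`. -/
noncomputable def coef (K : Subgroup G) (l : Cfsg.IrrCharacter ↥K) (ξ : Cfsg.IrrCharacter G) : ℤ :=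
  Classical.choose (CharExc.exists_int_classInner (isGeneralized_phi K l) ξ.2)

theorem coef_spec (K : Subgroup G) (l : Cfsg.IrrCharacter ↥K) (ξ : Cfsg.IrrCharacter G) :
    Cfsg.classInner (phi K l) ξ = (coef K l ξ : ℂ) :=
  Classical.choose_spec (CharExc.exists_int_classInner (isGeneralized_phi K l) ξ.2)

theorem phi_apply_eq_sum (K : Subgroup G) (l : Cfsg.IrrCharacter ↥K) (g : G) :
    phi K l g = ∑ ξ : Cfsg.IrrCharacter G, (coef K l ξ : ℂ) * (ξ : G → ℂ) g := by
  have h1 := congrFun (Char.IsClassFunction.eq_sum_classInner (isClass_phi K l)) g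
  simpa [coef_spec, Finset.sum_apply] using h1

theorem classInner_phi (K : Subgroup G) (l m : Cfsg.IrrCharacter ↥K) :
    Cfsg.classInner (phi K l) (phi K m) = ((∑ ξ, coef K l ξ * coef K m ξ : ℤ) : ℂ) := by
  rw [Char.classInner_eq_sum (isClass_phi K l) (isClass_phi K m)]
  simp only [coef_spec, map_intCast]
  push_cast
  rfl

include h

theorem K_comm : ∀ a b : ↥K, a * b = b * a := fun a b => Subtype.ext (h.comm a a.2 b b.2)

theorem phi_one (l : Cfsg.IrrCharacter ↥K) : phi K l 1 = 0 := by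
  rw [phi, Char.indFun_apply_one, base, AbChar.apply_one (K_comm h), sub_self, mul_zero]

theorem phi_apply_mem (l : Cfsg.IrrCharacter ↥K) (y : ↥K) :
    phi K l y = 2 - (l : ↥K → ℂ) y - conj ((l : ↥K → ℂ) y) := by
  classical
  by_cases hy : y = 1
  · subst hy
    rw [Subgroup.coe_one, phi_one h, AbChar.apply_one (K_comm h)]
    norm_num
  have hy1 : (y : G) ≠ 1 := fun e => hy (Subtype.ext e)
  rw [phi, Char.indFun_apply,
    ← Finset.sum_subset (s₁ := Finset.univ.filter (· ∈ C(t))) (Finset.subset_univ _) ?_]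
  · rw [← Finset.sum_filter_add_sum_filter_not (Finset.univ.filter (· ∈ C(t))) (· ∈ K)]
    have h1 : ∀ x ∈ (Finset.univ.filter (· ∈ C(t))).filter (· ∈ K),
        Cfsg.extendByZero K (base K l) (x⁻¹ * y * x) = base K l y := by
      intro x hx
      have hxK := (Finset.mem_filter.1 hx).2
      have e : x⁻¹ * (y : G) * x = y := by
        rw [mul_assoc, ← h.comm x hxK y y.2, inv_mul_cancel_left]
      rw [e, Char.extendByZero_coe]
    have h2 : ∀ x ∈ (Finset.univ.filter (· ∈ C(t))).filter (fun x => x ∉ K),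
        Cfsg.extendByZero K (base K l) (x⁻¹ * y * x) = base K l y⁻¹ := by
      intro x hx
      simp only [Finset.mem_filter, Finset.mem_univ, true_and] at hx
      obtain ⟨hx2, hxi⟩ := h.refl hx.1 hx.2
      have hxx : x⁻¹ = x := Invol.inv_eq_self hx2
      have e : x⁻¹ * (y : G) * x = ((y⁻¹ : ↥K) : G) := by
        rw [Subgroup.coe_inv, ← hxi y y.2, hxx]
      rw [e, Char.extendByZero_coe]
    rw [Finset.sum_congr rfl h1, Finset.sum_congr rfl h2, Finset.sum_const, Finset.sum_const]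
    have c1 : ((Finset.univ.filter (· ∈ C(t))).filter (· ∈ K)).card = Nat.card ↥K := by
      rw [Finset.filter_filter, Nat.card_eq_fintype_card, Fintype.card_subtype]
      congr 1
      ext x
      simp only [Finset.mem_filter, Finset.mem_univ, true_and]
      exact ⟨fun e => e.2, fun e => ⟨h.le_cent e, e⟩⟩
    have c2 : ((Finset.univ.filter (· ∈ C(t))).filter (fun x => x ∉ K)).card = Nat.card ↥K := by
      rw [Finset.filter_filter, ← h.card_refl, Nat.card_eq_fintype_card, Fintype.card_subtype]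
    rw [c1, c2, base, base, AbChar.apply_inv (K_comm h), nsmul_eq_mul, nsmul_eq_mul, ← mul_add,
      inv_mul_cancel_left₀ (Nat.cast_ne_zero.mpr Nat.card_pos.ne')]
    ring
  · intro x _ hx
    refine Char.extendByZero_of_notMem K _ fun hm => hx (Finset.mem_filter.2 ⟨Finset.mem_univ _, ?_⟩)
    have := h.hTI x⁻¹ y y.2 hy1 (by simpa using hm)
    exact inv_mem_iff.1 this

theorem phi_eq_zero (l : Cfsg.IrrCharacter ↥K) {z : G} (hz : Outside K z) : phi K l z = 0 :=
  Char.indFun_eq_zero_of_forall_notMem K _ z fun x hx => hz.2 ⟨hz.1, x⁻¹, by simpa using hx⟩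

theorem phi_cj (l : Cfsg.IrrCharacter ↥K) : phi K (AbChar.cj l) = phi K l := by
  funext z
  rcases h.outside_or z with rfl | ⟨-, g, hg⟩ | hz
  · rw [phi_one h, phi_one h]
  · rw [← isClass_phi K (AbChar.cj l) z g, ← isClass_phi K l z g,
      phi_apply_mem h (AbChar.cj l) ⟨_, hg⟩, phi_apply_mem h l ⟨_, hg⟩, AbChar.cj_apply,
      Complex.conj_conj]
    ring
  · rw [phi_eq_zero h _ hz, phi_eq_zero h _ hz]

theorem coef_cj (l : Cfsg.IrrCharacter ↥K) (ξ : Cfsg.IrrCharacter G) :
    coef K (AbChar.cj l) ξ = coef K l ξ := by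
  have h1 := coef_spec K (AbChar.cj l) ξ
  rw [phi_cj h, coef_spec] at h1
  exact_mod_cast h1.symm

theorem coef_principal_left (ξ : Cfsg.IrrCharacter G) : coef K Char.principalIrr ξ = 0 := by
  have : phi K Char.principalIrr = 0 := by
    rw [phi, ← Char.indFun_zero K]
    congr 1
    funext x
    simp [base]
  have h1 := coef_spec K Char.principalIrr ξ
  rw [this, Char.classInner_zero_left] at h1
  exact_mod_cast h1.symm

theorem coef_eq_inner (l : Cfsg.IrrCharacter ↥K) (ξ : Cfsg.IrrCharacter G) :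
    (coef K l ξ : ℂ) = (Nat.card ↥K : ℂ)⁻¹ *
      ∑ x : ↥K, (1 - conj ((l : ↥K → ℂ) x)) * (ξ : G → ℂ) x := by
  have h1 := coef_spec K l ξ
  rw [phi, Char.classInner_indFun K _ _ (Char.IsIrrCharacter.isClassFunction ξ.2)] at h1
  have h2 := congrArg conj h1
  rw [map_intCast] at h2
  rw [← h2, Cfsg.classInner, map_mul, map_inv₀, map_natCast, map_sum]
  congr 1
  exact Finset.sum_congr rfl fun x _ => by simp [base]

theorem coef_principal_right {l : Cfsg.IrrCharacter ↥K} (hl : l ≠ Char.principalIrr) :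
    coef K l (Char.principalIrr : Cfsg.IrrCharacter G) = 1 := by
  classical
  have h1 := coef_spec K l (Char.principalIrr : Cfsg.IrrCharacter G)
  rw [phi, Char.classInner_indFun K _ _
    (Char.IsIrrCharacter.isClassFunction (Char.principalIrr : Cfsg.IrrCharacter G).2)] at h1
  have e : (fun x : ↥K => (Char.principalIrr : Cfsg.IrrCharacter G).1 (x : G)) =
      ((Char.principalIrr : Cfsg.IrrCharacter ↥K) : ↥K → ℂ) := by
    funext x; simp
  have e2 : base K l =
      ((Char.principalIrr : Cfsg.IrrCharacter ↥K) : ↥K → ℂ) - (l : ↥K → ℂ) := by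
    funext x; simp [base]
  rw [e, e2, Char.classInner_sub_left, Char.classInner_irrCharacter,
    Char.classInner_irrCharacter, if_pos rfl, if_neg hl, sub_zero] at h1
  exact_mod_cast h1.symm

/-- The values of irreducible characters on `K`. -/
theorem apply_mem (ξ : Cfsg.IrrCharacter G) (y : ↥K) (hy : y ≠ 1) :
    (ξ : G → ℂ) y = -∑ l : Cfsg.IrrCharacter ↥K, (coef K l ξ : ℂ) * (l : ↥K → ℂ) y := by
  classical
  have hk : (Nat.card ↥K : ℂ) ≠ 0 := Nat.cast_ne_zero.mpr Nat.card_pos.ne'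
  simp only [coef_eq_inner h, Finset.mul_sum, Finset.sum_mul]
  rw [Finset.sum_comm]
  have h1 : ∀ x : ↥K, ∑ l : Cfsg.IrrCharacter ↥K,
      (Nat.card ↥K : ℂ)⁻¹ * ((1 - conj ((l : ↥K → ℂ) x)) * (ξ : G → ℂ) x) * (l : ↥K → ℂ) y =
      (Nat.card ↥K : ℂ)⁻¹ * (ξ : G → ℂ) x * (0 - if y = x then (Nat.card ↥K : ℂ) else 0) := by
    intro x
    rw [← AbChar.sum_mul_conj (K_comm h) y x, ← AbChar.sum_apply (K_comm h) hy,
      ← Finset.sum_sub_distrib, Finset.mul_sum]
    exact Finset.sum_congr rfl fun l _ => by ring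
  simp only [h1, zero_sub, mul_neg, Finset.sum_neg_distrib, neg_neg, mul_ite, mul_zero]
  rw [Finset.sum_ite_eq, if_pos (Finset.mem_univ _)]
  field_simp

theorem classInner_phi_val {l m : Cfsg.IrrCharacter ↥K} (hl : l ≠ Char.principalIrr)
    (hm : m ≠ Char.principalIrr) [Decidable (l = m)] [Decidable (l = AbChar.cj m)] :
    ∑ ξ, coef K l ξ * coef K m ξ =
      2 + (if l = m then 1 else 0) + (if l = AbChar.cj m then 1 else 0) := by
  classical
  have h1 := classInner_phi K l m
  rw [show phi K l = Cfsg.indFun K (base K l) from rfl,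
    Char.classInner_indFun K _ _ (isClass_phi K m)] at h1
  have e : (fun x : ↥K => phi K m (x : G)) =
      ((Char.principalIrr : Cfsg.IrrCharacter ↥K) : ↥K → ℂ) - (m : ↥K → ℂ) +
      (((Char.principalIrr : Cfsg.IrrCharacter ↥K) : ↥K → ℂ) - (AbChar.cj m : ↥K → ℂ)) := by
    funext x
    rw [phi_apply_mem h]
    simp [AbChar.cj_apply]
    ring
  have e2 : base K l =
      ((Char.principalIrr : Cfsg.IrrCharacter ↥K) : ↥K → ℂ) - (l : ↥K → ℂ) := by
    funext x; simp [base]
  rw [e, e2] at h1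
  simp only [Char.classInner_add_right, Char.classInner_sub_left, Char.classInner_sub_right,
    Char.classInner_irrCharacter, if_neg hl, if_neg hm.symm,
    if_neg (AbChar.cj_ne_principal hm).symm, if_true, sub_zero, zero_sub, sub_neg_eq_add] at h1
  have h3 : ((∑ ξ, coef K l ξ * coef K m ξ : ℤ) : ℂ) =
      ((2 + (if l = m then 1 else 0) + (if l = AbChar.cj m then 1 else 0) : ℤ) : ℂ) := by
    rw [← h1]
    push_cast
    ring
  exact_mod_cast h3

/-- The degree relation. -/
theorem coef_degree (l : Cfsg.IrrCharacter ↥K) :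
    ∑ ξ : Cfsg.IrrCharacter G, coef K l ξ * (Char.degree (ξ : G → ℂ) : ℤ) = 0 := by
  have h1 := phi_apply_eq_sum K l 1
  rw [phi_one h] at h1
  have h2 : ((∑ ξ : Cfsg.IrrCharacter G, coef K l ξ * (Char.degree (ξ : G → ℂ) : ℤ) : ℤ) : ℂ) =
      0 := by
    rw [h1]
    push_cast
    exact Finset.sum_congr rfl fun ξ _ => by
      rw [Char.IsCharacter.degree_cast (Char.IsIrrCharacter.isCharacter ξ.2)]
  exact_mod_cast h2

/-- The weighted character sum governing products of two involutions. -/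
noncomputable def Phi (t g : G) : ℂ :=
  ∑ ξ : Cfsg.IrrCharacter G, (ξ : G → ℂ) t * (ξ : G → ℂ) t * (ξ : G → ℂ) g / (ξ : G → ℂ) 1

omit h in
theorem pairs_conj (x z : G) : pairs (x * z * x⁻¹) = pairs z := by
  unfold pairs
  refine (Nat.card_congr (Equiv.subtypeEquiv ((MulAut.conj x).toEquiv.prodCongr
      (MulAut.conj x).toEquiv) fun p => ?_)).symm
  simp only [MulEquiv.toEquiv_eq_coe, Equiv.prodCongr_apply, Prod.map_fst, Prod.map_snd,
    EquivLike.coe_coe, MulAut.conj_apply, Invol.orderOf_conj]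
  constructor
  · rintro ⟨a, b, c⟩
    exact ⟨a, b, by rw [← c]; group⟩
  · rintro ⟨a, b, c⟩
    refine ⟨a, b, (MulAut.conj x).injective ?_⟩
    simp only [MulAut.conj_apply]
    rw [← c]; group

/-- The class multiplication formula. -/
theorem pairs_formula (g : G) :
    4 * (Nat.card ↥K : ℂ) * (Nat.card ↥K : ℂ) * (pairs g : ℂ) =
      (Nat.card G : ℂ) * Phi t g := by
  classical
  set I : Finset G := Finset.univ.filter fun x => orderOf x = 2 with hI
  have hIn : Nat.card {v : G // orderOf v = 2} = I.card := by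
    rw [Nat.card_eq_fintype_card, Fintype.card_subtype]
  have hIt : ∀ ξ : Cfsg.IrrCharacter G,
      ∑ p ∈ I, (ξ : G → ℂ) p = (I.card : ℂ) * (ξ : G → ℂ) t := by
    intro ξ
    rw [Finset.sum_congr rfl (g := fun _ => (ξ : G → ℂ) t) fun p hp => ?_, Finset.sum_const,
      nsmul_eq_mul]
    exact (Char.IsClassFunction.eq_of_isConj (Char.IsIrrCharacter.isClassFunction ξ.2)
      (h.hconj t p h.ht (Finset.mem_filter.1 hp).2)).symm
  have hleft : ∑ ξ : Cfsg.IrrCharacter G,
      conj ((ξ : G → ℂ) g) * ∑ p ∈ I, ∑ q ∈ I, (ξ : G → ℂ) (p * q) =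
      (pairs g : ℂ) * (Nat.card G : ℂ) := by
    have hswap : ∑ ξ : Cfsg.IrrCharacter G,
        conj ((ξ : G → ℂ) g) * ∑ p ∈ I, ∑ q ∈ I, (ξ : G → ℂ) (p * q) =
        ∑ x : G × G with x.1 ∈ I ∧ x.2 ∈ I,
          if IsConj (x.1 * x.2) g then (Nat.card (C(x.1 * x.2) : Subgroup G) : ℂ) else 0 := by
      simp only [Finset.mul_sum]
      rw [Finset.sum_comm]
      rw [show (Finset.univ.filter fun x : G × G => x.1 ∈ I ∧ x.2 ∈ I) = I ×ˢ I by ext; simp,
        Finset.sum_product]
      refine Finset.sum_congr rfl fun p _ => ?_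
      rw [Finset.sum_comm]
      refine Finset.sum_congr rfl fun q _ => ?_
      rw [← Char.sum_mul_conj (p * q) g]
      exact Finset.sum_congr rfl fun ξ _ => mul_comm _ _
    rw [hswap, ← Finset.sum_filter, Finset.filter_filter]
    rw [← Finset.sum_fiberwise_of_maps_to (t := Finset.univ.filter fun z => IsConj g z)
      (g := fun x : G × G => x.1 * x.2) (fun x hx => Finset.mem_filter.2
        ⟨Finset.mem_univ _, (Finset.mem_filter.1 hx).2.2.symm⟩)]
    rw [Finset.sum_congr rfl (g := fun z => (pairs g : ℂ) *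
      (Nat.card (C(g) : Subgroup G) : ℂ)) ?_, Finset.sum_const, nsmul_eq_mul,
      ← Fintype.card_subtype, ← Nat.card_eq_fintype_card,
      ← Char.card_isConj_mul_card_centralizer g]
    · push_cast; ring
    intro z hz
    have hgz : IsConj g z := (Finset.mem_filter.1 hz).2
    obtain ⟨w, hw⟩ := isConj_iff.1 hgz
    rw [Finset.sum_congr rfl (g := fun _ => (Nat.card (C(g) : Subgroup G) : ℂ)) ?_,
      Finset.sum_const, nsmul_eq_mul, ← pairs_conj w g, hw]
    · congr 1
      rw [Finset.filter_filter, ← Fintype.card_subtype, ← Nat.card_eq_fintype_card]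
      unfold pairs
      congr 1
      refine Nat.card_congr (Equiv.subtypeEquivRight fun x => ?_)
      simp only [hI, Finset.mem_filter, Finset.mem_univ, true_and]
      refine ⟨fun ⟨⟨⟨a, b⟩, _⟩, c⟩ => ⟨a, b, c⟩, fun ⟨a, b, c⟩ => ⟨⟨⟨a, b⟩, ?_⟩, c⟩⟩
      rw [c]; exact hgz.symm
    · intro x hx
      rw [(Finset.mem_filter.1 hx).2, ← hw]
      congr 1
      exact Nat.card_congr (((MulAut.conj w).toEquiv).subtypeEquiv fun c => by
        simp only [MulEquiv.toEquiv_eq_coe, EquivLike.coe_coe, MulAut.conj_apply, mem_cent_conj]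
        simp [mul_assoc]).symm
  have hright : ∀ ξ : Cfsg.IrrCharacter G,
      conj ((ξ : G → ℂ) g) * ∑ p ∈ I, ∑ q ∈ I, (ξ : G → ℂ) (p * q) =
      (I.card : ℂ) * (I.card : ℂ) *
        ((ξ : G → ℂ) t * (ξ : G → ℂ) t * conj ((ξ : G → ℂ) g) / (ξ : G → ℂ) 1) := by
    intro ξ
    have h1 := Invol.BSLarge.apply_one_mul_sum_sum ξ I (fun x => by simp [hI])
    rw [hIt] at h1
    have hne := Char.IsIrrCharacter.apply_one_ne_zero ξ.2
    field_simp
    linear_combination (conj ((ξ : G → ℂ) g)) * h1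
  rw [Finset.sum_congr rfl fun ξ _ => hright ξ, ← Finset.mul_sum] at hleft
  have hG : (Nat.card G : ℂ) = 2 * (Nat.card ↥K : ℂ) * (I.card : ℂ) := by
    rw [h.card_G, hIn]; push_cast; ring
  have hc := congrArg conj hleft
  simp only [map_mul, map_natCast, map_sum, map_div₀, Complex.conj_conj] at hc
  have ht1 : ∀ ξ : Cfsg.IrrCharacter G, conj ((ξ : G → ℂ) t) = (ξ : G → ℂ) t := fun ξ => by
    rw [← Char.IsIrrCharacter.apply_inv ξ.2, Invol.inv_eq_self h.ht]
  have h11 : ∀ ξ : Cfsg.IrrCharacter G, conj ((ξ : G → ℂ) 1) = (ξ : G → ℂ) 1 := fun ξ => by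
    rw [← Char.IsIrrCharacter.apply_inv ξ.2, inv_one]
  simp only [ht1, h11] at hc
  have hI0 : (I.card : ℂ) ≠ 0 := by
    refine Nat.cast_ne_zero.2 (Finset.card_pos.2 ⟨t, ?_⟩).ne'
    simp [hI, h.ht]
  refine mul_left_cancel₀ hI0 ?_
  rw [hG] at hc ⊢
  unfold Phi
  refine mul_left_cancel₀ (Nat.cast_ne_zero.2 (Nat.card_pos (α := ↥K)).ne' : (Nat.card ↥K : ℂ) ≠ 0)
    ?_
  linear_combination (-2 * (Nat.card ↥K : ℂ) * (Nat.card ↥K : ℂ)) * hc

end CfsgLib.InvChar.BSW
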