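import Cfsg.Agent.Lib.InvChar.BSW.Local
import Mathlib.Tactic.LinearCombination
import Mathlib.Tactic.IntervalCases

/-!
# The case of a split torus of even order
-/

set_option autoImplicit false

open scoped Classical

namespace CfsgLib.InvChar.BSW

variable {G : Type*} [Group G]

local notation "C(" x ")" => Subgroup.centralizer ({x} : Set _)

/-- The conclusion of the Brauer–Suzuki–Wall theorem. -/
def Conclusion (G : Type*) [Group G] : Prop :=
  ∃ Q D : Subgroup G, 2 * Nat.card G = Nat.card ↥Q * (Nat.card ↥Q + 1) * (Nat.card ↥Q - 1) ∧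
    (∀ x ∈ Q, x ≠ 1 → Subgroup.centralizer ({x} : Set G) = Q) ∧
    IsMulCommutative ↥D ∧ 2 * Nat.card ↥D + 1 = Nat.card ↥Q ∧ Q ⊓ D = ⊥ ∧
    Subgroup.normalizer (Q : Set G) = Q ⊔ D ∧
    ∀ X : Subgroup G, X ≤ D → X ≠ ⊥ →
      Subgroup.normalizer (X : Set G) = Subgroup.normalizer (D : Set G) ∧
      ∃ u : G, orderOf u = 2 ∧ u ∉ D ∧ (∀ d ∈ D, u * d * u⁻¹ = d⁻¹) ∧
        Subgroup.normalizer (D : Set G) = D ⊔ Subgroup.zpowers u

theorem mem_map_conj {c x : G} {A : Subgroup G} :
    x ∈ A.map (MulAut.conj c).toMonoidHom ↔ c⁻¹ * x * c ∈ A := by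
  rw [Subgroup.mem_map]
  constructor
  · rintro ⟨a, ha, rfl⟩
    simpa [mul_assoc] using ha
  · intro h
    exact ⟨_, h, by simp [mul_assoc]⟩

variable [Finite G] {t s : G} {K : Subgroup G}

theorem Hyp.pairs_conj' (x z : G) : pairs (x * z * x⁻¹) = pairs z := by
  unfold pairs
  refine (Nat.card_congr (Equiv.subtypeEquiv ((MulAut.conj x).toEquiv.prodCongr
      (MulAut.conj x).toEquiv) fun p => ?_)).symm
  simp only [MulEquiv.toEquiv_eq_coe, Equiv.prodCongr_apply, Prod.map_fst, Prod.map_snd,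
    EquivLike.coe_coe, MulAut.conj_apply, Invol.orderOf_conj]
  constructor
  · rintro ⟨a, b, c⟩
    exact ⟨a, b, by rw [← c]; group⟩
  · rintro ⟨a, b, c⟩
    refine ⟨a, b, (MulAut.conj x).injective ?_⟩
    simp only [MulAut.conj_apply]
    rw [← c]; group

variable (h : Hyp t s K)
include h

theorem Hyp.outside_conj {z : G} (hz : Outside K z) (x : G) : Outside K (x * z * x⁻¹) := by
  refine ⟨fun e => hz.1 (conj_eq_one_iff.1 e), fun e => hz.2 ?_⟩
  have := spread_conj e x⁻¹
  simpa [mul_assoc] using this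

/-- The part of the normalizer centralizing the inverting involution has order at most `|K|`. -/
theorem Hyp.stab_bound {z v : G} (hz : Outside K z) (hv : orderOf v = 2)
    (hinv : ∀ a ∈ C(z), v * a * v⁻¹ = a⁻¹) :
    ∃ c : G, c * t * c⁻¹ = v ∧
      Subgroup.normalizer ((C(z) : Subgroup G) : Set G) ⊓ C(v) ≤
        K.map (MulAut.conj c).toMonoidHom ∧
      Nat.card (Subgroup.normalizer ((C(z) : Subgroup G) : Set G) ⊓ C(v) : Subgroup G) ∣
        Nat.card K := by
  obtain ⟨c, hc⟩ := isConj_iff.1 (h.hconj t v h.ht hv)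
  have hle : Subgroup.normalizer ((C(z) : Subgroup G) : Set G) ⊓ C(v) ≤
      K.map (MulAut.conj c).toMonoidHom := fun n hn =>
    mem_map_conj.2 (h.stab_le hz hv hinv hc hn.1 (mem_cent.1 hn.2))
  refine ⟨c, hc, hle, ?_⟩
  have h1 := Subgroup.card_dvd_of_le hle
  rwa [Nat.card_congr (Subgroup.equivMapOfInjective K _ (MulAut.conj c).injective).toEquiv.symm]
    at h1

theorem plus_case (hk : 4 ≤ Nat.card K)
    (hn : (Nat.card {v : G // orderOf v = 2} : ℤ) =
      (2 * (Nat.card K : ℤ) + 1) * ((Nat.card K : ℤ) + 1))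
    (hP : ∀ z : G, Outside K z → ∃ σ : ℤ,
      (pairs z : ℤ) = 2 * (Nat.card K : ℤ) + 1 + σ * (Nat.card K : ℤ)) : Conclusion G := by
  haveI := Fintype.ofFinite G
  set k := Nat.card K with hkdef
  set n := Nat.card {v : G // orderOf v = 2} with hndef
  have hn' : n = (2 * k + 1) * (k + 1) := by exact_mod_cast hn
  have hg := h.card_G
  rw [← hkdef, ← hndef] at hg
  have hpos : ∀ z, Outside K z → pairs z ≠ 0 := by
    intro z hz e
    obtain ⟨σ, hσ⟩ := hP z hz
    rw [e] at hσ
    have hd : (k : ℤ) ∣ 1 := ⟨-2 - σ, by push_cast at hσ; linarith⟩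
    have := Int.le_of_dvd one_pos hd
    omega
  have hval : ∀ z, Outside K z →
      pairs z = k + 1 ∨ pairs z = 2 * k + 1 := by
    intro z hz
    obtain ⟨σ, hσ⟩ := hP z hz
    have hpa := h.pairs_eq_cent hz (hpos z hz)
    set a := Nat.card (C(z) : Subgroup G) with hadef
    have hodd := h.odd_cent hz
    rw [← hadef] at hodd
    have h1a : 1 < a := by
      rw [hadef, Subgroup.one_lt_card_iff_ne_bot]
      intro e
      exact hz.1 (Subgroup.mem_bot.1 (e ▸ (mem_cent.2 rfl : z ∈ C(z))))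
    rw [hpa] at hσ
    obtain ⟨cc, hcc⟩ : ∃ cc : ℕ, a = cc * k + 1 := by
      refine ⟨(σ + 2).toNat, ?_⟩
      have h1 : (a : ℤ) = (σ + 2) * k + 1 := by linarith
      have h2 : 0 ≤ σ + 2 := by
        by_contra hlt
        push Not at hlt
        have : (σ + 2) * (k : ℤ) ≤ -1 * k := mul_le_mul_of_nonneg_right (by omega) (by positivity)
        omega
      zify
      rw [Int.toNat_of_nonneg h2]
      exact h1
    rcases Nat.lt_or_ge cc 3 with hlt | hge
    · interval_cases cc
      · omega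
      · left; omega
      · right; omega
    exfalso
    have hadvd : a ∣ n := by
      have hd : a ∣ 2 * k * n := hg ▸ Subgroup.card_subgroup_dvd_card _
      refine Nat.Coprime.dvd_of_dvd_mul_left (Nat.Coprime.mul_right ?_ ?_) hd
      · exact (Nat.coprime_two_left.2 hodd).symm
      · rw [hcc, Nat.add_comm, Nat.coprime_add_mul_right_left]
        exact Nat.coprime_one_left k
    obtain ⟨e', he'⟩ := hadvd
    have han : a = n := by
      have h3 : (e' : ℤ) - 1 = (k : ℤ) * (2 * k + 3 - (e' : ℤ) * cc) := by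
        have h4 : ((2 * k + 1) * (k + 1) : ℤ) = ((cc : ℤ) * k + 1) * e' := by
          have := he'
          rw [hn', hcc] at this
          exact_mod_cast this
        linarith
      rcases Nat.lt_or_ge e' 2 with h2 | h2
      · interval_cases e'
        · rw [mul_zero, hn'] at he'; exfalso; nlinarith
        · rw [mul_one] at he'; exact he'.symm
      · exfalso
        have hL : 1 ≤ 2 * (k : ℤ) + 3 - (e' : ℤ) * cc := by
          by_contra hL
          push Not at hL
          have : (k : ℤ) * (2 * k + 3 - (e' : ℤ) * cc) ≤ 0 :=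
            mul_nonpos_of_nonneg_of_nonpos (by positivity) (by omega)
          omega
        have h5 : k + 1 ≤ e' := by
          have : (k : ℤ) * 1 ≤ (k : ℤ) * (2 * k + 3 - (e' : ℤ) * cc) :=
            mul_le_mul_of_nonneg_left hL (by positivity)
          omega
        have h6 : (3 * k + 1) * (k + 1) ≤ n := by
          rw [he', hcc]
          exact Nat.mul_le_mul (by nlinarith) h5
        rw [hn'] at h6
        nlinarith
    -- too many pairs over the conjugates of `C(z)`
    obtain ⟨v, hv, hinv⟩ := h.exists_inverting hz (hpos z hz)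
    obtain ⟨c, hc, -, hdvd⟩ := h.stab_bound hz hv hinv
    obtain ⟨hN, -, -⟩ := h.card_normalizer hz hv hinv
    have hm := Nat.le_of_dvd (by omega) hdvd
    have hsp := card_spread (C(z) : Subgroup G) _
      (fun g x hx hx1 hgx => h.ti hz (hpos z hz) hx hx1 hgx)
      (fun g hg x hx => (Subgroup.mem_normalizer_iff.1 hg x).1 hx)
    rw [hN, ← hadef, han, hg] at hsp
    set m := Nat.card (Subgroup.normalizer ((C(z) : Subgroup G) : Set G) ⊓ C(v) : Subgroup G)
    set S := Nat.card (spread (C(z) : Subgroup G))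
    have hS : 2 * (n - 1) ≤ S := by
      refine Nat.le_of_mul_le_mul_right (c := n * k) ?_ (by rw [hn']; positivity)
      calc 2 * (n - 1) * (n * k) = 2 * k * n * (n - 1) := by ring
        _ = S * (n * m) := hsp.symm
        _ ≤ S * (n * k) := by gcongr
    have hsum := h.sum_pairs
    rw [← hkdef, ← hndef] at hsum
    have hsub : (spread (C(z) : Subgroup G)).toFinset ⊆ Finset.univ.filter (Outside K) := by
      intro x hx
      obtain ⟨hx1, g, hgx⟩ := Set.mem_toFinset.1 hx
      have := h.outside_conj (h.outside_of_mem hz hgx (fun e => hx1 (conj_eq_one_iff.1 e))) g⁻¹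
      refine Finset.mem_filter.2 ⟨Finset.mem_univ _, ?_⟩
      simpa [mul_assoc] using this
    have hlow : n * S ≤ ∑ x ∈ Finset.univ.filter (Outside K), pairs x := by
      refine le_trans (le_of_eq ?_) (Finset.sum_le_sum_of_subset hsub)
      rw [Finset.sum_congr rfl (g := fun _ => n) ?_, Finset.sum_const, smul_eq_mul,
        ← Nat.card_eq_card_toFinset, mul_comm]
      intro x hx
      obtain ⟨hx1, g, hgx⟩ := Set.mem_toFinset.1 hx
      obtain ⟨hC, hp⟩ := h.cent_eq_of_mem hz (hpos z hz) hgx (fun e => hx1 (conj_eq_one_iff.1 e))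
      rw [← Hyp.pairs_conj' g x, h.pairs_eq_cent (h.outside_of_mem hz hgx
        (fun e => hx1 (conj_eq_one_iff.1 e))) hp, hC, ← hadef, han]
    have h7 : n * (2 * (n - 1)) ≤ n * S := Nat.mul_le_mul_left _ hS
    have h8 : n * (2 * (n - 1)) + n * (k - 1) * k + n ≤ n * n := by linarith
    obtain ⟨k', hk'⟩ : ∃ k', k = k' + 1 := ⟨k - 1, by omega⟩
    obtain ⟨n', hn''⟩ : ∃ n', n = n' + 1 := ⟨n - 1, (Nat.succ_pred_eq_of_pos (by rw [hn']; positivity)).symm⟩
    rw [hn'', Nat.add_sub_cancel, hk', Nat.add_sub_cancel] at h8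
    have h9 : 2 * n' + k' * (k' + 1) + 1 ≤ n' + 1 := by
      refine le_of_mul_le_mul_left ?_ (Nat.succ_pos n')
      rw [Nat.succ_eq_add_one]
      linarith
    have h10 : n' + k' * (k' + 1) ≤ 0 := by omega
    have : 0 < k' * (k' + 1) := Nat.mul_pos (by omega) (by omega)
    omega
  -- count the elements of the second kind
  set O := Finset.univ.filter (Outside K) with hO
  set O₂ := O.filter (fun z => pairs z = 2 * k + 1) with hO₂
  have hcount : O.card + n * (k - 1) + 1 = 2 * k * n := by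
    rw [← hg, ← h.card_outside, ← hkdef, ← hndef, Nat.card_eq_fintype_card, Fintype.card_subtype]
  have hsum := h.sum_pairs
  rw [← hkdef, ← hndef, ← hO, ← Finset.sum_filter_add_sum_filter_not O (fun z => pairs z = 2 * k + 1),
    Finset.sum_congr rfl (s₁ := O.filter fun z => pairs z = 2 * k + 1)
      (g := fun _ => 2 * k + 1) (fun z hz => (Finset.mem_filter.1 hz).2),
    Finset.sum_congr rfl (s₁ := O.filter fun z => ¬ pairs z = 2 * k + 1) (g := fun _ => k + 1)
      (fun z hz => (hval z (Finset.mem_filter.1 (Finset.mem_filter.1 hz).1).2).resolve_right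
        (Finset.mem_filter.1 hz).2),
    Finset.sum_const, Finset.sum_const, smul_eq_mul, smul_eq_mul, ← hO₂] at hsum
  have hsplit := Finset.card_filter_add_card_filter_not (s := O) (fun z => pairs z = 2 * k + 1)
  rw [← hO₂] at hsplit
  have hN2 : O₂.card = 4 * k * (k + 1) := by
    obtain ⟨k', hk'⟩ : ∃ k', k = k' + 1 := ⟨k - 1, by omega⟩
    set x := O₂.card
    set y := (O.filter fun z => ¬ pairs z = 2 * k + 1).card
    rw [← hsplit] at hcount
    rw [hk', Nat.add_sub_cancel] at hcount hsum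
    rw [hk'] at hn' ⊢
    refine Nat.eq_of_mul_eq_mul_left (show 0 < k' + 1 by omega) ?_
    have e1 : ((x : ℤ) + y) + n * k' + 1 = 2 * (k' + 1) * n := by exact_mod_cast hcount
    have e2 : (x : ℤ) * (2 * (k' + 1) + 1) + y * (k' + 1 + 1) + n * k' * (k' + 1) + n = n * n := by
      exact_mod_cast hsum
    have e3 : (n : ℤ) = (2 * (k' + 1) + 1) * (k' + 1 + 1) := by exact_mod_cast hn'
    zify
    rw [e3] at e1 e2
    linear_combination e2 - ((k' : ℤ) + 2) * e1
  obtain ⟨z, hz⟩ : O₂.Nonempty := Finset.card_pos.1 (by rw [hN2]; positivity)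
  obtain ⟨hzO, hzP⟩ := Finset.mem_filter.1 hz
  have hzout := (Finset.mem_filter.1 hzO).2
  have hzp := hpos z hzout
  obtain ⟨v, hv, hinv⟩ := h.exists_inverting hzout hzp
  obtain ⟨c, hc, hle, hdvd⟩ := h.stab_bound hzout hv hinv
  obtain ⟨hN, hNsup, hNinf⟩ := h.card_normalizer hzout hv hinv
  have hQ : Nat.card (C(z) : Subgroup G) = 2 * k + 1 := by rw [← h.pairs_eq_cent hzout hzp, hzP]
  set S := Subgroup.normalizer ((C(z) : Subgroup G) : Set G) ⊓ C(v) with hSdef
  set D := K.map (MulAut.conj c).toMonoidHom with hDdef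
  have hDcard : Nat.card D = k :=
    (Nat.card_congr (Subgroup.equivMapOfInjective K _ (MulAut.conj c).injective).toEquiv).symm
  have hSD : S = D := by
    refine Subgroup.eq_of_le_of_card_ge hle ?_
    rw [hDcard]
    have hsp := card_spread (C(z) : Subgroup G) _
      (fun g x hx hx1 hgx => h.ti hzout hzp hx hx1 hgx)
      (fun g hg x hx => (Subgroup.mem_normalizer_iff.1 hg x).1 hx)
    rw [hN, hQ, hg, Nat.add_sub_cancel] at hsp
    have hle2 : Nat.card (spread (C(z) : Subgroup G)) ≤ 4 * k * (k + 1) := by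
      rw [← hN2, Nat.card_eq_card_toFinset]
      refine Finset.card_le_card fun x hx => ?_
      obtain ⟨hx1, g, hgx⟩ := Set.mem_toFinset.1 hx
      have hne : g * x * g⁻¹ ≠ 1 := fun e => hx1 (conj_eq_one_iff.1 e)
      obtain ⟨hC, hp⟩ := h.cent_eq_of_mem hzout hzp hgx hne
      have ho := h.outside_of_mem hzout hgx hne
      refine Finset.mem_filter.2 ⟨Finset.mem_filter.2 ⟨Finset.mem_univ _, ?_⟩, ?_⟩
      · simpa [mul_assoc] using h.outside_conj ho g⁻¹
      · rw [← Hyp.pairs_conj' g x, h.pairs_eq_cent ho hp, hC, hQ]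
    have h1 : 2 * k * n * (2 * k) ≤ 4 * k * (k + 1) * ((2 * k + 1) * Nat.card S) :=
      hsp ▸ Nat.mul_le_mul_right _ hle2
    rw [hn'] at h1
    refine le_of_mul_le_mul_left ?_ (show 0 < 4 * k * (k + 1) * (2 * k + 1) by positivity)
    linarith
  have hmemD : ∀ x, x ∈ D ↔ c⁻¹ * x * c ∈ K := fun x => mem_map_conj
  have hCv : ∀ g, g ∈ C(v) ↔ c⁻¹ * g * c ∈ C(t) := fun g => by rw [← hc]; exact mem_cent_conj
  have hnormX : ∀ X : Subgroup G, X ≤ D → X ≠ ⊥ → Subgroup.normalizer (X : Set G) = C(v) := by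
    refine fun X => normalizer_eq (fun g x hx hx1 hgx => ?_) (fun g hgv x hx => ?_)
    · rw [hCv]
      refine h.hTI _ (c⁻¹ * x * c) ((hmemD x).1 hx)
        (fun e => hx1 (by
          calc x = c * (c⁻¹ * x * c) * c⁻¹ := by group
            _ = 1 := by rw [e]; group)) ?_
      have := (hmemD _).1 hgx
      simpa [mul_assoc] using this
    · rw [hCv] at hgv
      have hx' := (hmemD x).1 hx
      by_cases hgK : c⁻¹ * g * c ∈ K
      · left
        apply (MulAut.conj c⁻¹).injective
        simp only [MulAut.conj_apply, inv_inv]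
        calc c⁻¹ * (g * x * g⁻¹) * c
            = (c⁻¹ * g * c) * (c⁻¹ * x * c) * (c⁻¹ * g * c)⁻¹ := by group
          _ = c⁻¹ * x * c := by rw [h.comm _ hgK _ hx', mul_inv_cancel_right]
      · right
        apply (MulAut.conj c⁻¹).injective
        simp only [MulAut.conj_apply, inv_inv]
        calc c⁻¹ * (g * x * g⁻¹) * c
            = (c⁻¹ * g * c) * (c⁻¹ * x * c) * (c⁻¹ * g * c)⁻¹ := by group
          _ = (c⁻¹ * x * c)⁻¹ := (h.refl hgv hgK).2 _ hx'
          _ = c⁻¹ * x⁻¹ * c := by group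
  have hD1 : D ≠ ⊥ := by
    rw [← Subgroup.one_lt_card_iff_ne_bot, hDcard]; omega
  refine ⟨C(z), D, ?_, fun x hx hx1 => (h.cent_eq_of_mem hzout hzp hx hx1).1, ?_, ?_, ?_, ?_,
    fun X hX hX1 => ⟨by rw [hnormX X hX hX1, hnormX D le_rfl hD1], c * s * c⁻¹,
      (Invol.orderOf_conj c s).trans h.hs, ?_, ?_, ?_⟩⟩
  · rw [hQ, hg, hn', Nat.add_sub_cancel]; ring
  · refine ⟨⟨fun a b => Subtype.ext ?_⟩⟩
    have hab := h.comm _ ((hmemD a).1 a.2) _ ((hmemD b).1 b.2)
    calc (a : G) * b = c * ((c⁻¹ * a * c) * (c⁻¹ * b * c)) * c⁻¹ := by group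
      _ = c * ((c⁻¹ * b * c) * (c⁻¹ * a * c)) * c⁻¹ := by rw [hab]
      _ = b * a := by group
  · rw [hDcard, hQ]
  · rw [← hSD]; exact hNinf
  · rw [← hSD]; exact hNsup
  · rw [hmemD]; simpa [mul_assoc] using h.sK
  · intro d hd
    calc c * s * c⁻¹ * d * (c * s * c⁻¹)⁻¹ = c * (s * (c⁻¹ * d * c) * s⁻¹) * c⁻¹ := by group
      _ = d⁻¹ := by rw [h.hinv _ ((hmemD d).1 hd)]; group
  · rw [hnormX D le_rfl hD1, ← hc, hDdef,
      show Subgroup.zpowers (c * s * c⁻¹) =
        (Subgroup.zpowers s).map (MulAut.conj c).toMonoidHom by simp [MonoidHom.map_zpowers],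
      ← Subgroup.map_sup, h.hH]
    ext g
    rw [mem_map_conj, mem_cent_conj]

end CfsgLib.InvChar.BSW
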