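import Cfsg.Agent.Lib.InvChar.BSW.Count
import Cfsg.Agent.Lib.Invol.Counting
import Mathlib.Algebra.Group.Subgroup.Pointwise
import Mathlib.GroupTheory.Sylow

/-!
# The Brauer–Suzuki–Wall configuration
-/

set_option autoImplicit false

namespace CfsgLib.InvChar.BSW

variable {G : Type*} [Group G]

/-- The hypotheses of the Brauer–Suzuki–Wall theorem. -/
structure Hyp (t s : G) (K : Subgroup G) : Prop where
  ht : orderOf t = 2
  hs : orderOf s = 2
  comm : ∀ a ∈ K, ∀ b ∈ K, a * b = b * a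
  tK : t ∈ K
  sK : s ∉ K
  hH : K ⊔ Subgroup.zpowers s = Subgroup.centralizer ({t} : Set G)
  hCK : ∀ x ∈ K, s * x * s⁻¹ = x → x = 1 ∨ x = t
  hinv : ∀ x ∈ K, s * x * s⁻¹ = x⁻¹
  hTI : ∀ g x : G, x ∈ K → x ≠ 1 → g * x * g⁻¹ ∈ K → g ∈ Subgroup.centralizer ({t} : Set G)
  hconj : ∀ x y : G, orderOf x = 2 → orderOf y = 2 → IsConj x y

/-- Number of pairs of involutions with product `z`. -/
noncomputable def pairs (z : G) : ℕ :=
  Nat.card {p : G × G // orderOf p.1 = 2 ∧ orderOf p.2 = 2 ∧ p.1 * p.2 = z}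

/-- Elements not conjugate into `K`. -/
def Outside (K : Subgroup G) (z : G) : Prop := z ≠ 1 ∧ z ∉ spread K

local notation "C(" x ")" => Subgroup.centralizer ({x} : Set _)

theorem mem_cent {x g : G} : g ∈ Subgroup.centralizer ({x} : Set G) ↔ g * x = x * g :=
  Subgroup.mem_centralizer_singleton_iff

theorem mem_cent_conj {g x c : G} :
    c ∈ Subgroup.centralizer ({g * x * g⁻¹} : Set G) ↔
      g⁻¹ * c * g ∈ Subgroup.centralizer ({x} : Set G) := by
  rw [mem_cent, mem_cent]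
  constructor
  · intro h
    calc g⁻¹ * c * g * x = g⁻¹ * (c * (g * x * g⁻¹)) * g := by group
      _ = g⁻¹ * (g * x * g⁻¹ * c) * g := by rw [h]
      _ = x * (g⁻¹ * c * g) := by group
  · intro h
    calc c * (g * x * g⁻¹) = g * (g⁻¹ * c * g * x) * g⁻¹ := by group
      _ = g * (x * (g⁻¹ * c * g)) * g⁻¹ := by rw [h]
      _ = g * x * g⁻¹ * c := by group

namespace Hyp

variable {t s : G} {K : Subgroup G}

theorem mk' (ht : orderOf t = 2) (hKab : IsMulCommutative ↥K) (htK : t ∈ K) (hs : orderOf s = 2)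
    (hsK : s ∉ K) (hH : K ⊔ Subgroup.zpowers s = Subgroup.centralizer ({t} : Set G))
    (hCK : K ⊓ Subgroup.centralizer ({s} : Set G) = Subgroup.zpowers t)
    (hinv : ∀ x ∈ K, s * x * s⁻¹ = x⁻¹)
    (hTI : ∀ g : G, g ∉ Subgroup.centralizer ({t} : Set G) →
      K ⊓ K.map (MulAut.conj g).toMonoidHom = ⊥)
    (hconj : ∀ x y : G, orderOf x = 2 → orderOf y = 2 → IsConj x y) : Hyp t s K where
  ht := ht
  hs := hs
  comm a ha b hb := congrArg Subtype.val (hKab.is_comm.comm (⟨a, ha⟩ : K) ⟨b, hb⟩)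
  tK := htK
  sK := hsK
  hH := hH
  hCK x hx h := by
    have hm : x ∈ Subgroup.zpowers t :=
      hCK ▸ Subgroup.mem_inf.2 ⟨hx, mem_cent.2 (mul_inv_eq_iff_eq_mul.1 h).symm⟩
    obtain ⟨i, rfl⟩ := Subgroup.mem_zpowers_iff.1 hm
    rcases Int.even_or_odd i with ⟨j, rfl⟩ | ⟨j, rfl⟩
    · left
      rw [← two_mul, zpow_mul, zpow_ofNat, ← ht, pow_orderOf_eq_one, one_zpow]
    · right
      rw [zpow_add, zpow_mul, zpow_ofNat, ← ht, pow_orderOf_eq_one, one_zpow, one_mul, zpow_one]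
  hinv := hinv
  hTI g x hx hx1 hgx := by
    by_contra hg
    have hm : g * x * g⁻¹ ∈ K ⊓ K.map (MulAut.conj g).toMonoidHom :=
      Subgroup.mem_inf.2 ⟨hgx, x, hx, rfl⟩
    rw [hTI g hg, Subgroup.mem_bot, conj_eq_one_iff] at hm
    exact hx1 hm
  hconj := hconj

variable (h : Hyp t s K)
include h

theorem le_cent : K ≤ C(t) := h.hH ▸ le_sup_left
theorem s_mem : s ∈ C(t) := h.hH ▸ Subgroup.mem_sup_right (Subgroup.mem_zpowers s)

theorem s_normalizes {x : G} (hx : x ∈ K) : s * x * s⁻¹ ∈ K := by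
  rw [h.hinv x hx]; exact K.inv_mem hx

theorem mem_or {g : G} (hg : g ∈ C(t)) : g ∈ K ∨ ∃ x ∈ K, g = x * s := by
  have hs2 := Invol.mul_self_eq_one h.hs
  have hsi := Invol.inv_eq_self h.hs
  rw [← h.hH, Subgroup.sup_eq_closure] at hg
  induction hg using Subgroup.closure_induction with
  | mem x hx =>
    rcases hx with hx | hx
    · exact Or.inl hx
    · obtain ⟨i, rfl⟩ := Subgroup.mem_zpowers_iff.1 hx
      rcases Int.even_or_odd i with ⟨j, rfl⟩ | ⟨j, rfl⟩
      · left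
        rw [← two_mul, zpow_mul, zpow_ofNat, ← h.hs, pow_orderOf_eq_one, one_zpow]
        exact K.one_mem
      · right
        refine ⟨1, K.one_mem, ?_⟩
        rw [zpow_add, zpow_mul, zpow_ofNat, ← h.hs, pow_orderOf_eq_one, one_zpow, one_mul,
          zpow_one, one_mul]
  | one => exact Or.inl K.one_mem
  | mul a b _ _ ha hb =>
    rcases ha with ha | ⟨a, ha, rfl⟩ <;> rcases hb with hb | ⟨b, hb, rfl⟩
    · exact Or.inl (K.mul_mem ha hb)
    · exact Or.inr ⟨_ * b, K.mul_mem ha hb, by group⟩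
    · refine Or.inr ⟨a * _⁻¹, K.mul_mem ha (K.inv_mem hb), ?_⟩
      rw [← h.hinv _ hb]
      group
    · refine Or.inl ?_
      have : a * s * (b * s) = a * (s * b * s⁻¹) := by rw [hsi]; group
      rw [this, h.hinv b hb]
      exact K.mul_mem ha (K.inv_mem hb)
  | inv a _ ha =>
    rcases ha with ha | ⟨a, ha, rfl⟩
    · exact Or.inl (K.inv_mem ha)
    · refine Or.inr ⟨a, ha, ?_⟩
      rw [mul_inv_rev, hsi]
      calc s * a⁻¹ = (s * a * s⁻¹)⁻¹ * s := by group
        _ = a * s := by rw [h.hinv a ha, inv_inv]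

theorem refl {g : G} (hg : g ∈ C(t)) (hgK : g ∉ K) :
    orderOf g = 2 ∧ ∀ x ∈ K, g * x * g⁻¹ = x⁻¹ := by
  rcases h.mem_or hg with h1 | ⟨a, ha, rfl⟩
  · exact absurd h1 hgK
  refine ⟨Invol.orderOf_eq_two (fun e => hgK (e ▸ K.one_mem)) ?_, fun x hx => ?_⟩
  · calc a * s * (a * s) = a * (s * a * s⁻¹) * (s * s) := by group
      _ = 1 := by rw [h.hinv a ha, mul_inv_cancel, Invol.mul_self_eq_one h.hs, one_mul]
  · calc a * s * x * (a * s)⁻¹ = a * (s * x * s⁻¹) * a⁻¹ := by group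
      _ = x⁻¹ := by rw [h.hinv x hx, h.comm a ha _ (K.inv_mem hx), mul_inv_cancel_right]

theorem normalizes {g x : G} (hg : g ∈ C(t)) (hx : x ∈ K) : g * x * g⁻¹ ∈ K := by
  by_cases hgK : g ∈ K
  · exact K.mul_mem (K.mul_mem hgK hx) (K.inv_mem hgK)
  · rw [(h.refl hg hgK).2 x hx]; exact K.inv_mem hx

theorem t_ne_one : t ≠ 1 := Invol.ne_one_of_invol h.ht

theorem sq_eq_one {x : G} (hx : x ∈ K) (h2 : x ^ 2 = 1) : x = 1 ∨ x = t := by
  refine h.hCK x hx ?_
  rw [h.hinv x hx, inv_eq_of_mul_eq_one_right (by rw [← pow_two]; exact h2)]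

theorem eq_t_of_orderOf {x : G} (hx : x ∈ K) (h2 : orderOf x = 2) : x = t :=
  (h.sq_eq_one hx (h2 ▸ pow_orderOf_eq_one x)).resolve_left (Invol.ne_one_of_invol h2)

theorem cent_eq {x : G} (hx : x ∈ K) (h2 : x ^ 2 ≠ 1) : C(x) = K := by
  refine le_antisymm (fun g hg => ?_) fun g hg => mem_cent.2 (h.comm g hg x hx)
  have h1 : g * x * g⁻¹ = x := mul_inv_eq_iff_eq_mul.2 (mem_cent.1 hg)
  have hgt := h.hTI g x hx (fun e => h2 (by rw [e, one_pow])) (by rw [h1]; exact hx)
  by_contra hgK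
  have := (h.refl hgt hgK).2 x hx
  rw [h1] at this
  exact h2 (by rw [pow_two]; nth_rw 2 [this]; exact mul_inv_cancel x)

/-- Every involution is conjugate to `t`, which lies in `K`. -/
theorem invol_mem_spread {v : G} (hv : orderOf v = 2) : v ∈ spread K := by
  obtain ⟨g, hg⟩ := isConj_iff.1 (h.hconj v t hv h.ht)
  exact ⟨Invol.ne_one_of_invol hv, g, hg ▸ h.tK⟩

variable [Finite G]

theorem card_H : Nat.card (C(t) : Subgroup G) = 2 * Nat.card K := by
  let f : Bool × K → (C(t) : Subgroup G) := fun p =>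
    ⟨(p.2 : G) * (if p.1 then s else 1), by
      refine Subgroup.mul_mem _ (h.le_cent p.2.2) ?_
      split
      · exact h.s_mem
      · exact Subgroup.one_mem _⟩
  have hf : Function.Bijective f := by
    constructor
    · rintro ⟨b, x⟩ ⟨c, y⟩ e
      have e' : (x : G) * (if b then s else 1) = (y : G) * (if c then s else 1) :=
        congrArg Subtype.val e
      rcases b with _ | _ <;> rcases c with _ | _ <;> simp at e'
      · simp [e']
      · exact absurd (by simpa [e'] using K.mul_mem (K.inv_mem y.2) x.2) h.sK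
      · exact absurd (by simpa [← e'] using K.mul_mem (K.inv_mem x.2) y.2) h.sK
      · simp [e']
    · rintro ⟨g, hg⟩
      rcases h.mem_or hg with h1 | ⟨x, hx, rfl⟩
      · exact ⟨(false, ⟨g, h1⟩), Subtype.ext (by simp [f])⟩
      · exact ⟨(true, ⟨x, hx⟩), Subtype.ext (by simp [f])⟩
  rw [← Nat.card_eq_of_bijective f hf, Nat.card_prod, Nat.card_eq_fintype_card (α := Bool),
    Fintype.card_bool]

theorem even_card : 2 ∣ Nat.card K := h.ht ▸ Subgroup.orderOf_dvd_natCard K h.tK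

theorem card_G :
    Nat.card G = 2 * Nat.card K * Nat.card {v : G // orderOf v = 2} := by
  rw [← Subgroup.card_mul_index (C(t) : Subgroup G), h.card_H, ← Invol.card_isConj_eq_index]
  congr 1
  exact Nat.card_congr (Equiv.subtypeEquivRight fun v =>
    ⟨fun hv => Invol.orderOf_eq_two_of_isConj h.ht hv, fun hv => h.hconj t v h.ht hv⟩)

theorem card_spread_K :
    Nat.card (spread K) = Nat.card {v : G // orderOf v = 2} * (Nat.card K - 1) := by
  have hK : 0 < Nat.card K := Nat.card_pos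
  refine Nat.eq_of_mul_eq_mul_right (Nat.mul_pos two_pos hK) ?_
  have h1 := card_spread K _ h.hTI (fun g hg x hx => h.normalizes hg hx)
  rw [h.card_H, h.card_G] at h1
  rw [h1]; ring

/-! ### Pairs of involutions over elements of `K` -/

omit [Finite G] in
theorem inverting_iff {x g : G} (hx : x ∈ K) (h2 : x ^ 2 ≠ 1) :
    (orderOf g = 2 ∧ g * x * g⁻¹ = x⁻¹) ↔ g ∈ C(t) ∧ g ∉ K := by
  constructor
  · rintro ⟨-, hg⟩
    refine ⟨h.hTI g x hx (fun e => h2 (by rw [e, one_pow])) (by rw [hg]; exact K.inv_mem hx),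
      fun hgK => h2 ?_⟩
    rw [h.comm g hgK x hx, mul_inv_cancel_right] at hg
    rw [pow_two]; nth_rw 2 [hg]; exact mul_inv_cancel x
  · rintro ⟨h1, h2⟩
    exact ⟨(h.refl h1 h2).1, (h.refl h1 h2).2 x hx⟩

theorem card_refl : Nat.card {g : G // g ∈ C(t) ∧ g ∉ K} = Nat.card K := by
  refine Nat.card_congr
    { toFun := fun g => ⟨(g : G) * s, ?_⟩
      invFun := fun x => ⟨(x : G) * s, Subgroup.mul_mem _ (h.le_cent x.2) h.s_mem,
        fun e => h.sK ?_⟩
      left_inv := fun g => Subtype.ext (by simp [mul_assoc, Invol.mul_self_eq_one h.hs])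
      right_inv := fun x => Subtype.ext (by simp [mul_assoc, Invol.mul_self_eq_one h.hs]) }
  · rcases h.mem_or g.2.1 with h1 | ⟨x, hx, hgx⟩
    · exact absurd h1 g.2.2
    · rw [hgx, mul_assoc, Invol.mul_self_eq_one h.hs, mul_one]; exact hx
  · simpa using K.mul_mem (K.inv_mem x.2) e

theorem pairs_mem {x : G} (hx : x ∈ K) (h1 : x ≠ 1) : pairs x = Nat.card K := by
  by_cases h2 : x ^ 2 = 1
  · obtain rfl := (h.sq_eq_one hx h2).resolve_left h1
    have hp := Invol.card_pairs_involution h.ht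
    have hinj : Nat.card {g : G // orderOf g = 2 ∧ Commute g x} = Nat.card K + 1 := by
      have hset : {g : G | orderOf g = 2 ∧ Commute g x} =
          insert x {g : G | g ∈ C(x) ∧ g ∉ K} := by
        ext g
        simp only [Set.mem_setOf_eq, Set.mem_insert_iff]
        constructor
        · rintro ⟨hg, hc⟩
          by_cases hgK : g ∈ K
          · exact Or.inl (h.eq_t_of_orderOf hgK hg)
          · exact Or.inr ⟨mem_cent.2 hc, hgK⟩
        · rintro (rfl | ⟨hg, hgK⟩)
          · exact ⟨h.ht, Commute.refl _⟩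
          · exact ⟨(h.refl hg hgK).1, mem_cent.1 hg⟩
      show Nat.card ↥{g : G | orderOf g = 2 ∧ Commute g x} = _
      rw [Nat.card_coe_set_eq, hset, Set.ncard_insert_of_notMem (fun e => e.2 h.tK),
        ← Nat.card_coe_set_eq]
      exact congrArg (· + 1) h.card_refl
    unfold pairs
    omega
  · unfold pairs
    rw [Invol.card_pairs_eq h2, ← h.card_refl]
    exact Nat.card_congr (Equiv.subtypeEquivRight fun g => h.inverting_iff hx h2)

/-! ### Elements outside the conjugates of `K` -/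

omit [Finite G] in
theorem outside_or (z : G) : z = 1 ∨ z ∈ spread K ∨ Outside K z := by
  by_cases h1 : z = 1
  · exact Or.inl h1
  · by_cases h2 : z ∈ spread K
    · exact Or.inr (Or.inl h2)
    · exact Or.inr (Or.inr ⟨h1, h2⟩)

omit [Finite G] in
theorem not_commute_invol {z v : G} (hz : Outside K z) (hv : orderOf v = 2) :
    v * z * v⁻¹ ≠ z := by
  intro e
  obtain ⟨g, hg⟩ := isConj_iff.1 (h.hconj v t hv h.ht)
  have hm : g * z * g⁻¹ ∈ C(t) := by
    rw [← hg, mem_cent_conj]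
    simp only [← mul_assoc, inv_mul_cancel, one_mul, inv_mul_cancel_right]
    exact mem_cent.2 (mul_inv_eq_iff_eq_mul.1 e).symm
  by_cases hK : g * z * g⁻¹ ∈ K
  · exact hz.2 ⟨hz.1, g, hK⟩
  · obtain ⟨-, g', hg'⟩ := h.invol_mem_spread ((h.refl hm hK).1)
    exact hz.2 ⟨hz.1, g' * g, by simpa [mul_assoc] using hg'⟩

omit [Finite G] in
theorem outside_sq {z : G} (hz : Outside K z) : z ^ 2 ≠ 1 := fun e =>
  hz.2 (h.invol_mem_spread (orderOf_eq_prime e hz.1))

theorem odd_cent {z : G} (hz : Outside K z) : Odd (Nat.card (C(z) : Subgroup G)) := by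
  rw [← Nat.not_even_iff_odd, even_iff_two_dvd]
  intro hd
  haveI : Fact (Nat.Prime 2) := ⟨Nat.prime_two⟩
  obtain ⟨w, hw⟩ := exists_prime_orderOf_dvd_card' 2 hd
  refine h.not_commute_invol hz (by rwa [← Subgroup.orderOf_coe] at hw) ?_
  exact mul_inv_eq_iff_eq_mul.2 (mem_cent.1 w.2)

/-- Nonidentity elements of the centralizer of an outside element are outside. -/
theorem outside_of_mem {z c : G} (hz : Outside K z) (hc : c ∈ C(z)) (hc1 : c ≠ 1) :
    Outside K c := by
  refine ⟨hc1, fun hs => ?_⟩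
  obtain ⟨-, g, hg⟩ := hs
  have hc2 : (g * c * g⁻¹) ^ 2 ≠ 1 := by
    rw [conj_pow]
    simp only [ne_eq, conj_eq_one_iff]
    exact fun e => hc1 (eq_one_of_sq_of_odd (h.odd_cent hz) hc e)
  refine hz.2 ⟨hz.1, g, ?_⟩
  rw [← h.cent_eq hg hc2, mem_cent_conj]
  simp only [← mul_assoc, inv_mul_cancel, one_mul, inv_mul_cancel_right]
  exact mem_cent.2 (mem_cent.1 hc).symm

theorem inverts {z u : G} (hz : Outside K z) (hu : orderOf u = 2)
    (hn : ∀ a ∈ C(z), u * a * u⁻¹ ∈ C(z)) {a : G} (ha : a ∈ C(z)) : u * a * u⁻¹ = a⁻¹ :=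
  inverts_of_fpf (h.odd_cent hz) (Invol.mul_self_eq_one hu) hn (fun b hb e => by
    by_contra hb1
    exact h.not_commute_invol (h.outside_of_mem hz hb hb1) hu e) ha

theorem exists_inverting {z : G} (hz : Outside K z) (hp : pairs z ≠ 0) :
    ∃ v : G, orderOf v = 2 ∧ ∀ a ∈ C(z), v * a * v⁻¹ = a⁻¹ := by
  unfold pairs at hp
  obtain ⟨⟨p, hp1, hp2, hp3⟩⟩ := (Nat.card_ne_zero.1 hp).1
  refine ⟨p.1, hp1, fun a ha => h.inverts hz hp1 (fun b hb => ?_) ha⟩
  have hi := Invol.inverts_of_pair hp1 hp2 hp3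
  have h1 : p.1 * b * p.1⁻¹ ∈ C(p.1 * z * p.1⁻¹) := by
    rw [mem_cent_conj]
    simpa [mul_assoc] using hb
  rw [hi, mem_cent] at h1
  exact mem_cent.2 (Commute.inv_right_iff.1 h1)

theorem cent_comm {z a b : G} (hz : Outside K z) (hp : pairs z ≠ 0) (ha : a ∈ C(z))
    (hb : b ∈ C(z)) : a * b = b * a := by
  obtain ⟨v, -, hinv⟩ := h.exists_inverting hz hp
  have h1 := hinv _ (Subgroup.mul_mem _ ha hb)
  rw [show v * (a * b) * v⁻¹ = (v * a * v⁻¹) * (v * b * v⁻¹) by group, hinv a ha, hinv b hb,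
    ← mul_inv_rev] at h1
  exact (inv_injective h1).symm

/-- Centralizers of strongly real outside elements are self-centralizing. -/
theorem cent_eq_of_mem {z c : G} (hz : Outside K z) (hp : pairs z ≠ 0) (hc : c ∈ C(z))
    (hc1 : c ≠ 1) : C(c) = C(z) ∧ pairs c ≠ 0 := by
  have hco := h.outside_of_mem hz hc hc1
  obtain ⟨v, hv, hinv⟩ := h.exists_inverting hz hp
  have hpc : pairs c ≠ 0 := by
    unfold pairs
    rw [Invol.card_pairs_eq (h.outside_sq hco), Nat.card_ne_zero]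
    exact ⟨⟨⟨v, hv, hinv c hc⟩⟩, inferInstance⟩
  refine ⟨le_antisymm (fun b hb => mem_cent.2 ?_) (fun b hb => mem_cent.2 ?_), hpc⟩
  · exact h.cent_comm hco hpc hb (mem_cent.2 (mem_cent.1 hc).symm)
  · exact h.cent_comm hz hp hb hc

theorem pairs_eq_cent {z : G} (hz : Outside K z) (hp : pairs z ≠ 0) :
    pairs z = Nat.card (C(z) : Subgroup G) := by
  obtain ⟨v, hv, hinv⟩ := h.exists_inverting hz hp
  have hzm : z ∈ C(z) := mem_cent.2 rfl
  have hz2 := h.outside_sq hz
  unfold pairs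
  rw [Invol.card_pairs_eq hz2]
  refine (Nat.card_congr (Equiv.subtypeEquiv (Equiv.mulLeft v) fun a => ?_)).symm
  simp only [Equiv.coe_mulLeft]
  constructor
  · intro ha
    have h2 : v * a * z * (v * a)⁻¹ = z⁻¹ := by
      rw [show v * a * z * (v * a)⁻¹ = v * (a * z * a⁻¹) * v⁻¹ by group, mem_cent.1 ha,
        mul_inv_cancel_right, hinv z hzm]
    refine ⟨Invol.orderOf_eq_two (fun e => ?_) ?_, h2⟩
    · rw [e, one_mul, inv_one, mul_one] at h2
      exact hz2 (by rw [pow_two]; nth_rw 2 [h2]; exact mul_inv_cancel z)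
    · have h3 := hinv a ha
      rw [Invol.inv_eq_self hv] at h3
      rw [← mul_assoc, h3, inv_mul_cancel]
  · rintro ⟨-, e⟩
    rw [mem_cent, ← mul_inv_eq_iff_eq_mul]
    calc a * z * a⁻¹ = v⁻¹ * (v * a * z * (v * a)⁻¹) * v := by group
      _ = v⁻¹ * z⁻¹ * v := by rw [e]
      _ = z := by rw [← hinv z hzm]; group

omit [Finite G] in
theorem mem_normalizer_of {A : Subgroup G} {g : G} (hg : ∀ a, a ∈ A ↔ g * a * g⁻¹ ∈ A) :
    g ∈ Subgroup.normalizer (A : Set G) := Subgroup.mem_normalizer_iff.2 hg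

theorem ti {z g x : G} (hz : Outside K z) (hp : pairs z ≠ 0) (hx : x ∈ C(z)) (hx1 : x ≠ 1)
    (hgx : g * x * g⁻¹ ∈ C(z)) :
    g ∈ Subgroup.normalizer ((C(z) : Subgroup G) : Set G) := by
  refine h.mem_normalizer_of fun a => ?_
  conv_lhs => rw [← (h.cent_eq_of_mem hz hp hx hx1).1]
  conv_rhs => rw [← (h.cent_eq_of_mem hz hp hgx (fun e => hx1 (conj_eq_one_iff.1 e))).1,
    mem_cent_conj]
  simp [mul_assoc]

/-- The part of the normalizer centralizing an inverting involution lies in a conjugate of `K`. -/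
theorem stab_le {z v c : G} (hz : Outside K z) (hv : orderOf v = 2)
    (hinv : ∀ a ∈ C(z), v * a * v⁻¹ = a⁻¹) (hc : c * t * c⁻¹ = v) {n : G}
    (hn : n ∈ Subgroup.normalizer ((C(z) : Subgroup G) : Set G)) (hnv : n * v = v * n) :
    c⁻¹ * n * c ∈ K := by
  have hm : c⁻¹ * n * c ∈ C(t) := mem_cent_conj.1 (hc ▸ mem_cent.2 hnv)
  by_contra hK
  have hn2 : orderOf n = 2 := by
    rw [← (h.refl hm hK).1, ← Invol.orderOf_conj c (c⁻¹ * n * c)]
    congr 1
    group
  have hninv := fun a ha => h.inverts hz hn2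
    (fun b hb => (Subgroup.mem_normalizer_iff.1 hn b).1 hb) (a := a) ha
  have hzm : z ∈ C(z) := mem_cent.2 rfl
  have hvn : v * n ∈ C(z) := mem_cent.2 (mul_inv_eq_iff_eq_mul.1 (by
    rw [show v * n * z * (v * n)⁻¹ = v * (n * z * n⁻¹) * v⁻¹ by group, hninv z hzm,
      hinv _ (Subgroup.inv_mem _ hzm), inv_inv]))
  have h2 : (v * n) ^ 2 = 1 := by
    rw [pow_two, show v * n * (v * n) = v * (n * v) * n by group, hnv,
      show v * (v * n) * n = (v * v) * (n * n) by group, Invol.mul_self_eq_one hv,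
      Invol.mul_self_eq_one hn2, one_mul]
  have h3 := eq_one_of_sq_of_odd (h.odd_cent hz) hvn h2
  have hnv' : n = v := by rw [← Invol.inv_eq_self hv]; exact eq_inv_of_mul_eq_one_right h3
  exact hK (by rw [hnv', ← hc]; simpa [mul_assoc] using h.tK)

/-- The normalizer is the product of the centralizer with the stabilizer of an inverting
involution. -/
theorem card_normalizer {z v : G} (hz : Outside K z)
    (hv : orderOf v = 2) (hinv : ∀ a ∈ C(z), v * a * v⁻¹ = a⁻¹) :
    Nat.card (Subgroup.normalizer ((C(z) : Subgroup G) : Set G)) =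
      Nat.card (C(z) : Subgroup G) * Nat.card
        (Subgroup.normalizer ((C(z) : Subgroup G) : Set G) ⊓ C(v) : Subgroup G) ∧
      Subgroup.normalizer ((C(z) : Subgroup G) : Set G) =
        C(z) ⊔ (Subgroup.normalizer ((C(z) : Subgroup G) : Set G) ⊓ C(v)) ∧
      C(z) ⊓ (Subgroup.normalizer ((C(z) : Subgroup G) : Set G) ⊓ C(v)) = ⊥ := by
  set N := Subgroup.normalizer ((C(z) : Subgroup G) : Set G) with hN
  set A : Subgroup G := C(z) with hA
  have hAN : A ≤ N := Subgroup.le_normalizer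
  have hvv := Invol.mul_self_eq_one hv
  have hdisj : A ⊓ (N ⊓ C(v)) = ⊥ := by
    rw [eq_bot_iff]
    rintro a ⟨ha, -, hav⟩
    rw [Subgroup.mem_bot]
    have h1 := hinv a ha
    rw [← mem_cent.1 hav, mul_inv_cancel_right] at h1
    exact eq_one_of_sq_of_odd (h.odd_cent hz) ha (by
      rw [pow_two]; nth_rw 2 [h1]; exact mul_inv_cancel a)
  have hex : ∀ n ∈ N, ∃ e ∈ A, e * n ∈ N ⊓ C(v) := by
    intro n hn
    -- `n * v * n⁻¹` inverts `A`, so differs from `v` by an element of `A`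
    have hninv : ∀ a ∈ A, n * v * n⁻¹ * a * (n * v * n⁻¹)⁻¹ = a⁻¹ := fun a ha => by
      rw [show n * v * n⁻¹ * a * (n * v * n⁻¹)⁻¹ = n * (v * (n⁻¹ * a * n) * v⁻¹) * n⁻¹ by group,
        hinv _ (by simpa using (Subgroup.mem_normalizer_iff.1 (N.inv_mem hn) a).1 ha)]
      group
    have hb : v * (n * v * n⁻¹) ∈ A := by
      have hzm : z ∈ A := mem_cent.2 rfl
      refine mem_cent.2 (mul_inv_eq_iff_eq_mul.1 ?_)
      rw [show v * (n * v * n⁻¹) * z * (v * (n * v * n⁻¹))⁻¹ =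
        v * (n * v * n⁻¹ * z * (n * v * n⁻¹)⁻¹) * v⁻¹ by group, hninv z hzm,
        hinv _ (A.inv_mem hzm), inv_inv]
    obtain ⟨e, he, hee⟩ := exists_sq_root (h.odd_cent hz) hb
    refine ⟨e, he, Subgroup.mem_inf.2 ⟨N.mul_mem (hAN he) hn, mem_cent.2 ?_⟩⟩
    have hve : e * v = v * e⁻¹ := by
      have h1 := hinv e⁻¹ (A.inv_mem he)
      rw [inv_inv] at h1
      calc e * v = v * e⁻¹ * v⁻¹ * v := by rw [h1]
        _ = v * e⁻¹ := by rw [inv_mul_cancel_right]
    calc e * n * v = e * (v * v) * (n * v * n⁻¹) * n := by rw [hvv]; group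
      _ = e * v * (v * (n * v * n⁻¹)) * n := by group
      _ = v * e⁻¹ * (e * e) * n := by rw [hve, ← hee]
      _ = v * (e * n) := by group
  refine ⟨?_, le_antisymm ?_ (sup_le hAN inf_le_left), hdisj⟩
  · rw [← Nat.card_prod]
    refine (Nat.card_eq_of_bijective (fun p : A × (N ⊓ C(v) : Subgroup G) =>
      (⟨(p.1 : G) * p.2, N.mul_mem (hAN p.1.2) (inf_le_left (b := C(v)) p.2.2)⟩ : N)) ⟨?_, ?_⟩).symm
    · rintro ⟨a, d⟩ ⟨b, e⟩ heq
      have h1 : (a : G) * d = b * e := congrArg Subtype.val heq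
      have h2 : (b : G)⁻¹ * a ∈ A ⊓ (N ⊓ C(v)) := Subgroup.mem_inf.2
        ⟨A.mul_mem (A.inv_mem b.2) a.2, by
          rw [show (b : G)⁻¹ * a = e * (d : G)⁻¹ by
            rw [eq_mul_inv_iff_mul_eq, mul_assoc, h1, inv_mul_cancel_left]]
          exact Subgroup.mul_mem _ e.2 (Subgroup.inv_mem _ d.2)⟩
      rw [hdisj, Subgroup.mem_bot, inv_mul_eq_one] at h2
      rw [← h2] at h1
      exact Prod.ext (Subtype.ext h2.symm) (Subtype.ext (mul_left_cancel h1))
    · rintro ⟨n, hn⟩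
      obtain ⟨e, he, hen⟩ := hex n hn
      exact ⟨(⟨e⁻¹, A.inv_mem he⟩, ⟨e * n, hen⟩), Subtype.ext (by simp)⟩
  · intro n hn
    obtain ⟨e, he, hen⟩ := hex n hn
    rw [show n = e⁻¹ * (e * n) by group]
    exact Subgroup.mul_mem _ (Subgroup.mem_sup_left (A.inv_mem he)) (Subgroup.mem_sup_right hen)

/-! ### The global counts -/

theorem card_outside :
    Nat.card {z : G // Outside K z} + Nat.card {v : G // orderOf v = 2} * (Nat.card K - 1) + 1 =
      Nat.card G := by
  rw [← h.card_spread_K, ← Set.ncard_univ G]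
  have hu : (Set.univ : Set G) = {z | Outside K z} ∪ spread K ∪ {1} := by
    refine (Set.eq_univ_of_forall fun z => ?_).symm
    rcases h.outside_or z with h1 | h1 | h1
    · exact Or.inr h1
    · exact Or.inl (Or.inr h1)
    · exact Or.inl (Or.inl h1)
  rw [hu, Set.ncard_union_eq, Set.ncard_union_eq, Set.ncard_singleton]
  · rw [← Nat.card_coe_set_eq, ← Nat.card_coe_set_eq]
    rfl
  · exact Set.disjoint_left.2 fun z hz hz' => hz.2 hz'
  · exact Set.disjoint_left.2 fun z hz hz' => by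
      rcases hz with hz | hz
      · exact hz.1 hz'
      · exact hz.1 hz'

theorem sum_pairs [Fintype G] [DecidablePred (Outside K)] :
    ∑ z ∈ Finset.univ.filter (Outside K), pairs z +
      Nat.card {v : G // orderOf v = 2} * (Nat.card K - 1) * Nat.card K +
      Nat.card {v : G // orderOf v = 2} =
    Nat.card {v : G // orderOf v = 2} * Nat.card {v : G // orderOf v = 2} := by
  classical
  have htot : ∑ z : G, pairs z =
      Nat.card {v : G // orderOf v = 2} * Nat.card {v : G // orderOf v = 2} := by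
    unfold pairs
    rw [← Nat.card_prod, ← Nat.card_sigma]
    exact Nat.card_congr
      { toFun := fun p => (⟨p.2.1.1, p.2.2.1⟩, ⟨p.2.1.2, p.2.2.2.1⟩)
        invFun := fun q => ⟨q.1.1 * q.2.1, ⟨(q.1.1, q.2.1), q.1.2, q.2.2, rfl⟩⟩
        left_inv := by rintro ⟨z, ⟨⟨a, b⟩, ha, hb, rfl⟩⟩; rfl
        right_inv := fun q => rfl }
  have hu : (Finset.univ : Finset G) =
      insert 1 (Finset.univ.filter (Outside K) ∪ (spread K).toFinset) := by
    refine (Finset.eq_univ_of_forall fun z => ?_).symm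
    simpa [or_comm (a := z ∈ spread K)] using h.outside_or z
  have h1 : pairs (1 : G) = Nat.card {v : G // orderOf v = 2} := by
    unfold pairs
    exact Nat.card_congr
      { toFun := fun p => ⟨p.1.1, p.2.1⟩
        invFun := fun v => ⟨(v.1, v.1), v.2, v.2, Invol.mul_self_eq_one v.2⟩
        left_inv := by
          rintro ⟨⟨a, b⟩, ha, hb, hab⟩
          have : b = a := by
            have ha' : orderOf a = 2 := ha
            rw [← Invol.inv_eq_self ha']; exact eq_inv_of_mul_eq_one_right hab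
          subst this
          rfl
        right_inv := fun q => rfl }
  have hK : ∀ z ∈ (spread K).toFinset, pairs z = Nat.card K := by
    intro z hz
    obtain ⟨hz1, g, hg⟩ := Set.mem_toFinset.1 hz
    rw [← h.pairs_mem hg (fun e => hz1 (conj_eq_one_iff.1 e))]
    unfold pairs
    refine Nat.card_congr (Equiv.subtypeEquiv ((MulAut.conj g).toEquiv.prodCongr
      (MulAut.conj g).toEquiv) fun p => ?_)
    simp only [MulEquiv.toEquiv_eq_coe, Equiv.prodCongr_apply, Prod.map_fst, Prod.map_snd,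
      EquivLike.coe_coe, MulAut.conj_apply, Invol.orderOf_conj]
    constructor
    · rintro ⟨a, b, c⟩
      exact ⟨a, b, by rw [← c]; group⟩
    · rintro ⟨a, b, c⟩
      refine ⟨a, b, ?_⟩
      apply (MulAut.conj g).injective
      simp only [MulAut.conj_apply]
      rw [← c]; group
  rw [← htot, Finset.sum_congr hu (fun z _ => rfl), Finset.sum_insert, Finset.sum_union, Finset.sum_congr rfl hK,
    Finset.sum_const, smul_eq_mul, h1, ← Nat.card_eq_card_toFinset, h.card_spread_K]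
  · ring
  · exact Finset.disjoint_left.2 fun z hz hz' =>
      (Finset.mem_filter.1 hz).2.2 (Set.mem_toFinset.1 hz')
  · simp only [Finset.mem_union, Finset.mem_filter, Set.mem_toFinset, not_or]
    exact ⟨fun e => e.2.1 rfl, fun e => e.1 rfl⟩

end Hyp

end CfsgLib.InvChar.BSW
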