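import Cfsg.Agent.Lib.InvChar.BSW.Phi

/-!
# Supports of the induced generalized characters
-/

set_option autoImplicit false

open scoped ComplexConjugate Classical

namespace CfsgLib.InvChar.BSW

universe u

variable {G : Type u} [Group G] [Fintype G] {t s : G} {K : Subgroup G} [Fintype ↥K]
  (h : Hyp t s K)

/-- The nonprincipal constituents of `phi K l`. -/
noncomputable def supp (K : Subgroup G) (l : Cfsg.IrrCharacter ↥K) :
    Finset (Cfsg.IrrCharacter G) :=
  Finset.univ.filter fun ξ => ξ ≠ Char.principalIrr ∧ coef K l ξ ≠ 0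

theorem mem_supp {K : Subgroup G} {l : Cfsg.IrrCharacter ↥K} {ξ : Cfsg.IrrCharacter G} :
    ξ ∈ supp K l ↔ ξ ≠ Char.principalIrr ∧ coef K l ξ ≠ 0 := by
  simp [supp]

theorem coef_eq_zero {K : Subgroup G} {l : Cfsg.IrrCharacter ↥K} {ξ : Cfsg.IrrCharacter G}
    (hξ : ξ ≠ Char.principalIrr) (hn : ξ ∉ supp K l) : coef K l ξ = 0 := by
  by_contra hc
  exact hn (mem_supp.2 ⟨hξ, hc⟩)

include h

theorem sum_coef_mul {l m : Cfsg.IrrCharacter ↥K} (hl : l ≠ Char.principalIrr)
    (hm : m ≠ Char.principalIrr) :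
    ∑ ξ ∈ supp K l, coef K l ξ * coef K m ξ =
      1 + (if l = m then 1 else 0) + (if l = AbChar.cj m then 1 else 0) := by
  have h1 := classInner_phi_val h hl hm
  rw [← Finset.add_sum_erase _ _ (Finset.mem_univ (Char.principalIrr : Cfsg.IrrCharacter G)),
    coef_principal_right h hl, coef_principal_right h hm] at h1
  have h2 : ∑ ξ ∈ Finset.univ.erase (Char.principalIrr : Cfsg.IrrCharacter G),
      coef K l ξ * coef K m ξ = ∑ ξ ∈ supp K l, coef K l ξ * coef K m ξ := by
    refine (Finset.sum_subset ?_ ?_).symm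
    · intro ξ hξ
      exact Finset.mem_erase.2 ⟨(mem_supp.1 hξ).1, Finset.mem_univ _⟩
    · intro ξ hξ hn
      rw [coef_eq_zero (Finset.mem_erase.1 hξ).1 hn, zero_mul]
  rw [h2] at h1
  linarith

theorem supp_card {l : Cfsg.IrrCharacter ↥K} (hl : l ≠ Char.principalIrr) :
    (∀ ξ ∈ supp K l, coef K l ξ = 1 ∨ coef K l ξ = -1) ∧
      (AbChar.cj l ≠ l → (supp K l).card = 2) ∧ (AbChar.cj l = l → (supp K l).card = 3) := by
  have h1 := sum_coef_mul h hl hl
  rw [if_pos rfl] at h1
  have hle : ∀ ξ ∈ supp K l, coef K l ξ * coef K l ξ ≤ 3 := by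
    intro ξ hξ
    refine (Finset.single_le_sum (fun η _ => mul_self_nonneg (coef K l η)) hξ).trans ?_
    rw [h1]; split <;> norm_num
  have hone : ∀ ξ ∈ supp K l, coef K l ξ = 1 ∨ coef K l ξ = -1 := by
    intro ξ hξ
    have h0 := (mem_supp.1 hξ).2
    have h3 := hle ξ hξ
    have : coef K l ξ < 2 := by nlinarith
    have : -2 < coef K l ξ := by nlinarith
    omega
  have hcard : ((supp K l).card : ℤ) = 1 + 1 + (if l = AbChar.cj l then 1 else 0) := by
    rw [← h1, Finset.card_eq_sum_ones, Nat.cast_sum]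
    refine Finset.sum_congr rfl fun ξ hξ => ?_
    rcases hone ξ hξ with e | e <;> simp [e]
  refine ⟨hone, fun hne => ?_, fun he => ?_⟩
  · rw [if_neg (Ne.symm hne)] at hcard; omega
  · rw [if_pos he.symm] at hcard; omega

/-- Two members of different pairs share exactly one constituent, with the same sign. -/
theorem supp_inter {l m : Cfsg.IrrCharacter ↥K} (hl : l ≠ Char.principalIrr)
    (hm : m ≠ Char.principalIrr) (hlg : AbChar.cj l ≠ l) (hne : m ≠ l)
    (hne' : m ≠ AbChar.cj l) :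
    ∃ ξ, supp K l ∩ supp K m = {ξ} ∧ coef K l ξ = coef K m ξ := by
  obtain ⟨hone, hc2, -⟩ := supp_card h hl
  obtain ⟨hone', -, -⟩ := supp_card h hm
  obtain ⟨a, b, hab, hT⟩ := Finset.card_eq_two.1 (hc2 hlg)
  have h1 := sum_coef_mul h hl hm
  rw [if_neg (Ne.symm hne), if_neg (fun e => hne' (by rw [e, AbChar.cj_cj])), hT,
    Finset.sum_pair hab] at h1
  have ha : a ∈ supp K l := by simp [hT]
  have hb : b ∈ supp K l := by simp [hT]
  have hza : a ∉ supp K m → coef K m a = 0 := coef_eq_zero (mem_supp.1 ha).1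
  have hzb : b ∉ supp K m → coef K m b = 0 := coef_eq_zero (mem_supp.1 hb).1
  by_cases hma : a ∈ supp K m <;> by_cases hmb : b ∈ supp K m
  · exfalso
    rcases hone a ha with e1 | e1 <;> rcases hone b hb with e2 | e2 <;>
      rcases hone' a hma with e3 | e3 <;> rcases hone' b hmb with e4 | e4 <;>
      rw [e1, e2, e3, e4] at h1 <;> omega
  · refine ⟨a, ?_, ?_⟩
    · ext ξ
      rw [hT]
      simp only [Finset.mem_inter, Finset.mem_insert, Finset.mem_singleton]
      exact ⟨fun ⟨e, e'⟩ => e.resolve_right fun e'' => hmb (e'' ▸ e'),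
        fun e => ⟨Or.inl e, e ▸ hma⟩⟩
    · rw [hzb hmb] at h1
      rcases hone a ha with e1 | e1 <;> rcases hone' a hma with e3 | e3 <;>
        rw [e1, e3] at h1 ⊢ <;> omega
  · refine ⟨b, ?_, ?_⟩
    · ext ξ
      rw [hT]
      simp only [Finset.mem_inter, Finset.mem_insert, Finset.mem_singleton]
      exact ⟨fun ⟨e, e'⟩ => e.resolve_left fun e'' => hma (e'' ▸ e'),
        fun e => ⟨Or.inr e, e ▸ hmb⟩⟩
    · rw [hza hma] at h1
      rcases hone b hb with e1 | e1 <;> rcases hone' b hmb with e3 | e3 <;>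
        rw [e1, e3] at h1 ⊢ <;> omega
  · exfalso
    rw [hza hma, hzb hmb] at h1
    simp at h1

/-- The degree relation on the support. -/
theorem supp_degree {l : Cfsg.IrrCharacter ↥K} (hl : l ≠ Char.principalIrr) :
    1 + ∑ ξ ∈ supp K l, coef K l ξ * (Char.degree (ξ : G → ℂ) : ℤ) = 0 := by
  have h1 := coef_degree h l
  rw [← Finset.add_sum_erase _ _ (Finset.mem_univ (Char.principalIrr : Cfsg.IrrCharacter G)),
    coef_principal_right h hl] at h1
  have hd : Char.degree ((Char.principalIrr : Cfsg.IrrCharacter G) : G → ℂ) = 1 := by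
    simp [Char.degree]
  have h2 : ∑ ξ ∈ supp K l, coef K l ξ * (Char.degree (ξ : G → ℂ) : ℤ) =
      ∑ ξ ∈ Finset.univ.erase (Char.principalIrr : Cfsg.IrrCharacter G),
        coef K l ξ * (Char.degree (ξ : G → ℂ) : ℤ) := by
    refine Finset.sum_subset ?_ ?_
    · intro ξ hξ
      exact Finset.mem_erase.2 ⟨(mem_supp.1 hξ).1, Finset.mem_univ _⟩
    · intro ξ hξ hn
      rw [coef_eq_zero (Finset.mem_erase.1 hξ).1 hn, zero_mul]
  rw [hd] at h1
  rw [h2]
  simpa using h1

/-- The value expansion on the support. -/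
theorem supp_value {l : Cfsg.IrrCharacter ↥K} (hl : l ≠ Char.principalIrr) (g : G) :
    phi K l g = 1 + ∑ ξ ∈ supp K l, (coef K l ξ : ℂ) * (ξ : G → ℂ) g := by
  rw [phi_apply_eq_sum,
    ← Finset.add_sum_erase _ _ (Finset.mem_univ (Char.principalIrr : Cfsg.IrrCharacter G)),
    coef_principal_right h hl, Int.cast_one, one_mul, Char.principalIrr_apply]
  congr 1
  refine (Finset.sum_subset ?_ ?_).symm
  · intro ξ hξ
    exact Finset.mem_erase.2 ⟨(mem_supp.1 hξ).1, Finset.mem_univ _⟩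
  · intro ξ hξ hn
    rw [coef_eq_zero (Finset.mem_erase.1 hξ).1 hn, Int.cast_zero, zero_mul]

theorem supp_cj (l : Cfsg.IrrCharacter ↥K) : supp K (AbChar.cj l) = supp K l := by
  ext ξ
  rw [mem_supp, mem_supp, coef_cj h]

/-- The sign character. -/
theorem exists_eta :
    ∃ η : Cfsg.IrrCharacter ↥K, η ≠ Char.principalIrr ∧ AbChar.cj η = η ∧
      (∀ l : Cfsg.IrrCharacter ↥K, AbChar.cj l = l → l ≠ Char.principalIrr → l = η) ∧
      (∀ x : ↥K, (η : ↥K → ℂ) x = 1 ∨ (η : ↥K → ℂ) x = -1) ∧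
      (∀ x : ↥K, (η : ↥K → ℂ) (x * x) = 1) ∧ ∃ y : ↥K, (η : ↥K → ℂ) y = -1 :=
  AbChar.exists_sign (K_comm h) ⟨t, h.tK⟩ (fun e => h.t_ne_one (congrArg Subtype.val e))
    fun x => by
      constructor
      · intro e
        rcases h.sq_eq_one x.2 (congrArg Subtype.val e) with e' | e'
        · exact Or.inl (Subtype.ext e')
        · exact Or.inr (Subtype.ext e')
      · rintro (rfl | rfl)
        · exact one_pow 2
        · exact Subtype.ext (by
            show t ^ 2 = 1
            rw [← h.ht, pow_orderOf_eq_one])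

/-- The characters paired with their distinct conjugates. -/
theorem sum_generic {η : Cfsg.IrrCharacter ↥K} (hη : η ≠ Char.principalIrr)
    (hη' : AbChar.cj η = η)
    (huniq : ∀ l : Cfsg.IrrCharacter ↥K, AbChar.cj l = l → l ≠ Char.principalIrr → l = η)
    (f : Cfsg.IrrCharacter ↥K → ℂ) :
    ∑ l, f l = f Char.principalIrr + f η +
      ∑ l ∈ Finset.univ.filter (fun l : Cfsg.IrrCharacter ↥K => AbChar.cj l ≠ l), f l := by
  rw [← Finset.sum_filter_add_sum_filter_not Finset.univ
    (fun l : Cfsg.IrrCharacter ↥K => AbChar.cj l = l)]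
  congr 1
  rw [show Finset.univ.filter (fun l : Cfsg.IrrCharacter ↥K => AbChar.cj l = l) =
      {Char.principalIrr, η} by
    ext l
    simp only [Finset.mem_filter, Finset.mem_univ, true_and, Finset.mem_insert,
      Finset.mem_singleton]
    refine ⟨fun e => ?_, ?_⟩
    · by_cases hl : l = Char.principalIrr
      · exact Or.inl hl
      · exact Or.inr (huniq l e hl)
    · rintro (rfl | rfl)
      · exact AbChar.cj_principal
      · exact hη', Finset.sum_pair hη.symm]

theorem sum_generic_apply {η : Cfsg.IrrCharacter ↥K} (hη : η ≠ Char.principalIrr)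
    (hη' : AbChar.cj η = η)
    (huniq : ∀ l : Cfsg.IrrCharacter ↥K, AbChar.cj l = l → l ≠ Char.principalIrr → l = η)
    {y : ↥K} (hy : y ≠ 1) :
    ∑ l ∈ Finset.univ.filter (fun l : Cfsg.IrrCharacter ↥K => AbChar.cj l ≠ l),
      (l : ↥K → ℂ) y = -1 - (η : ↥K → ℂ) y := by
  have h1 := sum_generic h hη hη' huniq (fun l => (l : ↥K → ℂ) y)
  rw [AbChar.sum_apply (K_comm h) hy, Char.principalIrr_apply] at h1
  linear_combination -h1

theorem card_generic {η : Cfsg.IrrCharacter ↥K} (hη : η ≠ Char.principalIrr)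
    (hη' : AbChar.cj η = η)
    (huniq : ∀ l : Cfsg.IrrCharacter ↥K, AbChar.cj l = l → l ≠ Char.principalIrr → l = η) :
    (Finset.univ.filter (fun l : Cfsg.IrrCharacter ↥K => AbChar.cj l ≠ l)).card + 2 =
      Nat.card ↥K := by
  have h1 := sum_generic h hη hη' huniq (fun _ => (1 : ℂ))
  rw [Finset.sum_const, Finset.sum_const, Finset.card_univ, nsmul_eq_mul, mul_one,
    AbChar.card_irr (K_comm h), nsmul_eq_mul, mul_one] at h1
  have : (Nat.card ↥K : ℂ) = (((Finset.univ.filter
      (fun l : Cfsg.IrrCharacter ↥K => AbChar.cj l ≠ l)).card + 2 : ℕ) : ℂ) := by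
    rw [h1]; push_cast; ring
  exact_mod_cast this.symm

end CfsgLib.InvChar.BSW
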